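import Groth.Agent.Vancyc.H155.Main

/-!
# Finite determinacy: the form used in the assembly of S4015
-/

set_option autoImplicit false
set_option linter.style.haveILetI false

namespace Groth.Agent.Vancyc.H155.FD

open CategoryTheory CategoryTheory.Limits AlgebraicGeometry Groth.Agent.CurvesC.NodeEt

universe u

/-- The origin of affine space, as a `k`-point. -/
noncomputable abbrev origin (k : Type u) [Field k] (n : ℕ) :
    Spec (CommRingCat.of k) ⟶ Spec (CommRingCat.of (MvPolynomial (Fin n) k)) :=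
  Spec.map (CommRingCat.ofHom (MvPolynomial.eval (0 : Fin n → k)))

/-- The map `𝔸^n → 𝔸^1` defined by a polynomial. -/
noncomputable abbrev polyMap {k : Type u} [Field k] {n : ℕ} (g : MvPolynomial (Fin n) k) :
    Spec (CommRingCat.of (MvPolynomial (Fin n) k)) ⟶ Spec (CommRingCat.of (Polynomial k)) :=
  Spec.map (CommRingCat.ofHom (Polynomial.aeval g : Polynomial k →ₐ[k] MvPolynomial (Fin n) k).toRingHom)

/-- **Package FD of S4015**, scheme-theoretic form. `e` is the `k`-point of `W` over `x₀` and over the origin. -/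
theorem exists_model {k : Type u} [Field k] [IsAlgClosed k] {S X : Scheme.{u}} (pS : S ⟶ Spec (CommRingCat.of k))
    (pX : X ⟶ Spec (CommRingCat.of k)) [SmoothOfRelativeDimension 1 pS] (n : ℕ)
    [SmoothOfRelativeDimension n pX] (f : X ⟶ S) (hf : f ≫ pS = pX) (x₀ : X) (hx₀ : IsClosed ({x₀} : Set X))
    (U : X.Opens) (hU : Smooth (U.ι ≫ f)) (hiso : ∃ V : X.Opens, x₀ ∈ V ∧ (V : Set X) ⊆ insert x₀ (U : Set X)) :
    ∃ (S₀ : Scheme.{u}) (j : S₀ ⟶ S) (τ : S₀ ⟶ Spec (CommRingCat.of (Polynomial k)))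
      (e₀ : Spec (CommRingCat.of k) ⟶ S₀), IsAffine S₀ ∧ IsOpenImmersion j ∧ Etale τ ∧
      j ≫ pS = τ ≫ Spec.map (CommRingCat.ofHom Polynomial.C) ∧
      e₀ ≫ τ = Spec.map (CommRingCat.ofHom (Polynomial.evalRingHom (0 : k))) ∧
      (e₀ ≫ j) (IsLocalRing.closedPoint k) = f x₀ ∧
      ∃ (M : ℕ) (φ : MvPolynomial (Fin n) k), 1 ≤ M ∧ ∀ g : MvPolynomial (Fin n) k,
        g - φ ∈ (Ideal.span (Set.range (MvPolynomial.X : Fin n → MvPolynomial (Fin n) k))) ^ M →
        (∃ (W : Scheme.{u}) (p : W ⟶ X) (q : W ⟶ Spec (CommRingCat.of (MvPolynomial (Fin n) k))) (r : W ⟶ S₀)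
          (e : Spec (CommRingCat.of k) ⟶ W), IsAffine W ∧ Etale p ∧ Etale q ∧
          p ≫ f = r ≫ j ∧ r ≫ τ = q ≫ polyMap g ∧ e ≫ r = e₀ ∧ e ≫ q = origin k n ∧
          (e ≫ p) (IsLocalRing.closedPoint k) = x₀ ∧
          p ≫ pX = q ≫ Spec.map (CommRingCat.ofHom (algebraMap k (MvPolynomial (Fin n) k)))) ∧
        MvPolynomial.eval (0 : Fin n → k) g = 0 ∧
        haveI : (RingHom.ker (MvPolynomial.eval (0 : Fin n → k) : MvPolynomial (Fin n) k →+* k)).IsPrime :=
          RingHom.ker_isPrime _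
        VanCyc.milnor pX f x₀ = Module.finrank k
          (Localization.AtPrime (RingHom.ker (MvPolynomial.eval (0 : Fin n → k) : MvPolynomial (Fin n) k →+* k)) ⧸
            (Ideal.span (Set.range fun i => MvPolynomial.pderiv i g)).map (algebraMap (MvPolynomial (Fin n) k)
              (Localization.AtPrime
                (RingHom.ker (MvPolynomial.eval (0 : Fin n → k) : MvPolynomial (Fin n) k →+* k))))) := by
  obtain ⟨R₀, _, _, j, τ, ε₀, hj, hjp, hτ, hτ0, hs, M, φ, hM, H⟩ := Main.main pS pX n f hf x₀ hx₀ U hU hiso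
  refine ⟨Spec (CommRingCat.of R₀), j,
    Spec.map (CommRingCat.ofHom (Polynomial.aeval τ : Polynomial k →ₐ[k] R₀).toRingHom),
    Spec.map (CommRingCat.ofHom ε₀.toRingHom), inferInstance, hj,
    (HasRingHomProperty.Spec_iff (P := @Etale)).mpr hτ, ?_, ?_, ?_, M, φ, hM, fun g hg => ?_⟩
  · rw [hjp, ← Spec.map_comp]
    congr 1
    ext r
    simp
  · rw [← Spec.map_comp]
    congr 1
    ext r
    · simp
    · simpa using hτ0
  · rw [Scheme.Hom.comp_apply]
    exact hs
  obtain ⟨⟨B, _, _, p, y, ε, θ, hp, hpX, hy, hy0, hpx, hθ, hpf, hg⟩, hg0, hmu⟩ := H g hg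
  refine ⟨⟨Spec (CommRingCat.of B), p,
    Spec.map (CommRingCat.ofHom (MvPolynomial.aeval y : MvPolynomial (Fin n) k →ₐ[k] B).toRingHom),
    Spec.map (CommRingCat.ofHom θ.toRingHom), Spec.map (CommRingCat.ofHom ε.toRingHom), inferInstance, hp,
    (HasRingHomProperty.Spec_iff (P := @Etale)).mpr hy, hpf, ?_, ?_, ?_, ?_, ?_⟩, hg0, ?_⟩
  · rw [← Spec.map_comp, ← Spec.map_comp, ← CommRingCat.ofHom_comp, ← CommRingCat.ofHom_comp]
    congr 2
    have h1 : θ.comp (Polynomial.aeval τ : Polynomial k →ₐ[k] R₀) =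
        (MvPolynomial.aeval y : MvPolynomial (Fin n) k →ₐ[k] B).comp (Polynomial.aeval g) := by
      ext
      simp [hg]
    exact congrArg AlgHom.toRingHom h1
  · rw [← Spec.map_comp, ← CommRingCat.ofHom_comp]
    congr 2
    exact congrArg AlgHom.toRingHom hθ
  · rw [← Spec.map_comp, ← CommRingCat.ofHom_comp]
    congr 2
    ext r
    · simp
    · simpa using hy0 r
  · rw [Scheme.Hom.comp_apply]
    exact hpx
  · rw [hpX, ← Spec.map_comp, ← CommRingCat.ofHom_comp]
    congr 2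
    ext r
    simp
  · haveI : (RingHom.ker (MvPolynomial.eval (0 : Fin n → k) : MvPolynomial (Fin n) k →+* k)).IsPrime :=
      RingHom.ker_isPrime _
    exact hmu (Localization.AtPrime
      (RingHom.ker (MvPolynomial.eval (0 : Fin n → k) : MvPolynomial (Fin n) k →+* k)))
      (RingHom.ker (MvPolynomial.eval (0 : Fin n → k) : MvPolynomial (Fin n) k →+* k)).primeCompl (fun t => Iff.rfl)

end Groth.Agent.Vancyc.H155.FD
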