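import Groth.Agent.Vancyc.H155.Isol
import Mathlib.RingTheory.Localization.AtPrime.Basic
import Mathlib.RingTheory.Etale.Basic

/-!
# The Milnor number and étale maps (algebra)
-/

set_option autoImplicit false
set_option linter.style.haveILetI false

namespace Groth.Agent.Vancyc.H155.Mu

open MvPolynomial Groth.Agent.CurvesC.NodeEt

universe u v w

section quot

variable {k : Type v} [CommRing k] {A : Type u} {B : Type w} [CommRing A] [CommRing B] [Algebra k A] [Algebra k B]

theorem mem_map_sub (ψ : A →ₐ[k] B) (b : Ideal B) (hsurj : ∀ z : B, ∃ a : A, z - ψ a ∈ b) (I : Ideal A) {z : B}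
    (hz : z ∈ I.map ψ) : ∃ i ∈ I, z - ψ i ∈ b := by
  refine Submodule.span_induction ?_ ?_ ?_ ?_ hz
  · rintro _ ⟨i, hi, rfl⟩
    exact ⟨i, hi, by simp⟩
  · exact ⟨0, I.zero_mem, by simp⟩
  · rintro z z' _ _ ⟨i, hi, h1⟩ ⟨i', hi', h2⟩
    refine ⟨i + i', add_mem hi hi', ?_⟩
    rw [map_add, add_sub_add_comm]
    exact add_mem h1 h2
  · rintro c z _ ⟨i, hi, h1⟩
    obtain ⟨a, ha⟩ := hsurj c
    refine ⟨a * i, I.mul_mem_left _ hi, ?_⟩
    have h2 : c • z - ψ (a * i) = ψ i * (c - ψ a) + c * (z - ψ i) := by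
      rw [map_mul, smul_eq_mul]
      ring
    rw [h2]
    exact add_mem (b.mul_mem_left _ ha) (b.mul_mem_left _ h1)

theorem comap_sup (ψ : A →ₐ[k] B) (a : Ideal A) (b : Ideal B) (hab : b.comap ψ = a)
    (hsurj : ∀ z : B, ∃ a : A, z - ψ a ∈ b) (I : Ideal A) : (I.map ψ ⊔ b).comap ψ = I ⊔ a := by
  apply le_antisymm
  · intro z hz
    obtain ⟨z₁, hz₁, z₂, hz₂, h⟩ := Submodule.mem_sup.mp (show ψ z ∈ I.map ψ ⊔ b from hz)
    obtain ⟨i, hi, h1⟩ := mem_map_sub ψ b hsurj I hz₁
    have h2 : z - i ∈ a := by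
      rw [← hab, Ideal.mem_comap]
      have h3 : ψ (z - i) = z₂ + (z₁ - ψ i) := by
        rw [map_sub, ← h]
        ring
      rw [h3]
      exact add_mem hz₂ h1
    have h4 : z = i + (z - i) := by ring
    rw [h4]
    exact add_mem (Ideal.mem_sup_left hi) (Ideal.mem_sup_right h2)
  · refine sup_le ?_ ?_
    · exact Ideal.le_comap_map.trans (Ideal.comap_mono le_sup_left)
    · rw [← hab]
      exact Ideal.comap_mono le_sup_right

theorem finrank_eq (ψ : A →ₐ[k] B) (a : Ideal A) (b : Ideal B) (hab : b.comap ψ = a)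
    (hsurj : ∀ z : B, ∃ a : A, z - ψ a ∈ b) (I : Ideal A) :
    Module.finrank k (A ⧸ (I ⊔ a)) = Module.finrank k (B ⧸ (I.map ψ ⊔ b)) := by
  have h := comap_sup ψ a b hab hsurj I
  let F : (A ⧸ (I ⊔ a)) →ₐ[k] B ⧸ (I.map ψ ⊔ b) := Ideal.quotientMapₐ _ ψ h.ge
  have hF : Function.Bijective F := by
    constructor
    · exact Ideal.quotientMap_injective' (H := h.ge) h.le
    · intro z
      obtain ⟨z, rfl⟩ := Ideal.Quotient.mk_surjective z
      obtain ⟨c, hc⟩ := hsurj z
      refine ⟨Ideal.Quotient.mk _ c, ?_⟩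
      change Ideal.Quotient.mk _ (ψ c) = Ideal.Quotient.mk _ z
      rw [eq_comm, Ideal.Quotient.eq]
      exact Ideal.mem_sup_right hc
  exact (AlgEquiv.ofBijective F hF).toLinearEquiv.finrank_eq

end quot

section point

variable {k : Type v} [Field k] {A : Type u} [CommRing A] [Algebra k A]

/-- Elements outside the maximal ideal are invertible modulo powers. -/
theorem exists_inv (ε : A →ₐ[k] k) (N : ℕ) (t : A) (ht : ε t ≠ 0) : ∃ t' : A, t * t' - 1 ∈ (RingHom.ker ε) ^ N := by
  have h1 : IsUnit (Ideal.Quotient.mk ((RingHom.ker ε) ^ N) t) := by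
    have h2 : IsNilpotent (Ideal.Quotient.mk ((RingHom.ker ε) ^ N) (t - algebraMap k A (ε t))) := by
      refine ⟨N, ?_⟩
      rw [← map_pow, Ideal.Quotient.eq_zero_iff_mem]
      refine Ideal.pow_mem_pow ?_ N
      rw [RingHom.mem_ker, map_sub, AlgHom.commutes]
      exact sub_self _
    have h3 : IsUnit (Ideal.Quotient.mk ((RingHom.ker ε) ^ N) (algebraMap k A (ε t))) :=
      ((IsUnit.mk0 _ ht).map (algebraMap k A)).map _
    have h4 := h2.isUnit_add_left_of_commute h3 (Commute.all _ _)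
    rw [← map_add] at h4
    rwa [show algebraMap k A (ε t) + (t - algebraMap k A (ε t)) = t by ring] at h4
  obtain ⟨c, hc⟩ := h1.exists_right_inv
  obtain ⟨c, rfl⟩ := Ideal.Quotient.mk_surjective c
  refine ⟨c, ?_⟩
  rw [← map_mul, ← map_one (Ideal.Quotient.mk _), Ideal.Quotient.eq] at hc
  exact hc

/-- Comparison with the localization. -/
theorem finrank_localization (ε : A →ₐ[k] k) (O : Type w) [CommRing O] [Algebra k O] [Algebra A O]
    [IsScalarTower k A O] (M : Submonoid A) (hM : ∀ t, t ∈ M ↔ ε t ≠ 0) [IsLocalization M O] (I : Ideal A) (N : ℕ)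
    (s : A) (hs : ε s = 1) (hI : ∀ b ∈ (RingHom.ker ε) ^ N, s * b ∈ I) :
    Module.finrank k (O ⧸ I.map (algebraMap A O)) = Module.finrank k (A ⧸ (I ⊔ (RingHom.ker ε) ^ N)) := by
  let ψ : A →ₐ[k] O := IsScalarTower.toAlgHom k A O
  have hψ : ∀ a, ψ a = algebraMap A O a := fun _ => rfl
  let b : Ideal O := ((RingHom.ker ε) ^ N).map (algebraMap A O)
  have hab : b.comap ψ = (RingHom.ker ε) ^ N := by
    apply le_antisymm
    · intro a ha
      obtain ⟨⟨⟨c, hc⟩, t⟩, h1⟩ := (IsLocalization.mem_map_algebraMap_iff M O).mp (show algebraMap A O a ∈ b from ha)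
      rw [← map_mul] at h1
      obtain ⟨u, hu⟩ := (IsLocalization.eq_iff_exists M O).mp h1
      have h2 : ε (u * t : A) ≠ 0 := by
        rw [map_mul]
        exact mul_ne_zero ((hM _).mp u.2) ((hM _).mp t.2)
      obtain ⟨t', ht'⟩ := exists_inv ε N _ h2
      have h3 : a = (u * t * t') * a - (u * t * t' - 1) * a := by ring
      rw [h3]
      refine sub_mem ?_ (Ideal.mul_mem_right _ _ ht')
      have h4 : (u * t * t' : A) * a = t' * (u * c) := by
        have : (u : A) * c = u * (a * t) := hu.symm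
        rw [this]
        ring
      rw [h4]
      exact Ideal.mul_mem_left _ _ (Ideal.mul_mem_left _ _ hc)
    · exact Ideal.le_comap_map
  have hsurj : ∀ z : O, ∃ a : A, z - ψ a ∈ b := by
    intro z
    obtain ⟨⟨a, t⟩, h1⟩ := IsLocalization.surj M z
    obtain ⟨t', ht'⟩ := exists_inv ε N _ ((hM _).mp t.2)
    refine ⟨a * t', ?_⟩
    have h2 : z - ψ (a * t') = -(z * algebraMap A O (t * t' - 1)) := by
      have h3 : z * algebraMap A O t = algebraMap A O a := h1
      rw [hψ, map_mul, ← h3, map_sub, map_mul, map_one]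
      ring
    rw [h2]
    exact neg_mem (Ideal.mul_mem_left _ _ (Ideal.mem_map_of_mem _ ht'))
  have hle : b ≤ I.map (algebraMap A O) := by
    rw [Ideal.map_le_iff_le_comap]
    intro a ha
    have h1 : algebraMap A O s * algebraMap A O a ∈ I.map (algebraMap A O) := by
      rw [← map_mul]
      exact Ideal.mem_map_of_mem _ (hI a ha)
    obtain ⟨w, hw⟩ := (IsLocalization.map_units O (⟨s, (hM s).mpr (by rw [hs]; exact one_ne_zero)⟩ : M)).exists_right_inv
    change algebraMap A O s * w = 1 at hw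
    have h2 : algebraMap A O a = w * (algebraMap A O s * algebraMap A O a) := by
      rw [← mul_assoc, mul_comm w, hw, one_mul]
    change algebraMap A O a ∈ I.map (algebraMap A O)
    rw [h2]
    exact Ideal.mul_mem_left _ _ h1
  rw [finrank_eq ψ _ b hab hsurj I]
  have h1 : I.map ψ ⊔ b = I.map (algebraMap A O) := sup_eq_left.mpr hle
  rw [h1]

end point

section coord

variable {k : Type v} [Field k] {m : ℕ} {A : Type u} [CommRing A] [Algebra k A] {x : Fin m → A}

/-- The origin of affine space. -/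
noncomputable abbrev ev0 (k : Type v) [Field k] (m : ℕ) : MvPolynomial (Fin m) k →ₐ[k] k := aeval fun _ => 0

theorem ε_aeval (ε : A →ₐ[k] k) (hεx : ∀ i, ε (x i) = 0) (p : MvPolynomial (Fin m) k) : ε (aeval x p) = ev0 k m p := by
  have h1 : ε.comp (aeval x) = ev0 k m := by
    ext i
    simp [hεx]
  exact DFunLike.congr_fun h1 p

theorem mem_pow_of_aeval_mem (hx : IsEtaleCoord k x) (ε : A →ₐ[k] k) (hεx : ∀ i, ε (x i) = 0) (N : ℕ)
    (p : MvPolynomial (Fin m) k) (hp : aeval x p ∈ (RingHom.ker ε) ^ N) : p ∈ (RingHom.ker (ev0 k m)) ^ N := by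
  letI : Algebra (MvPolynomial (Fin m) k) A := algMv k x
  haveI : Algebra.Etale (MvPolynomial (Fin m) k) A := hx
  haveI : Algebra.FormallySmooth (MvPolynomial (Fin m) k) A := inferInstance
  have halg : ∀ p, algebraMap (MvPolynomial (Fin m) k) A p = aeval x p := fun _ => rfl
  let 𝔪 : Ideal (MvPolynomial (Fin m) k) := RingHom.ker (ev0 k m)
  let C := MvPolynomial (Fin m) k ⧸ 𝔪 ^ N
  let I : Ideal C := 𝔪.map (Ideal.Quotient.mk (𝔪 ^ N))
  have hIN : I ^ N = ⊥ := by
    rw [← Ideal.map_pow, Ideal.map_quotient_self]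
  let g₀ : A →+* C ⧸ I := (algebraMap k (C ⧸ I)).comp (ε : A →+* k)
  have hg₀ : ∀ a, g₀ a = algebraMap k (C ⧸ I) (ε a) := fun _ => rfl
  let g : A →ₐ[MvPolynomial (Fin m) k] C ⧸ I :=
    { g₀ with
      commutes' := fun p => by
        change g₀ (algebraMap _ A p) = Ideal.Quotient.mk I (Ideal.Quotient.mk (𝔪 ^ N) p)
        rw [hg₀, halg, ε_aeval ε hεx]
        change Ideal.Quotient.mk I (Ideal.Quotient.mk (𝔪 ^ N) (algebraMap k _ (ev0 k m p))) = _
        rw [Ideal.Quotient.eq, ← map_sub]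
        refine Ideal.mem_map_of_mem _ ?_
        rw [RingHom.mem_ker, map_sub, AlgHom.commutes]
        exact sub_self _ }
  obtain ⟨σ, hσ⟩ := Algebra.FormallySmooth.exists_lift I ⟨N, hIN⟩ g
  have h1 : RingHom.ker ε ≤ I.comap σ := by
    intro a ha
    rw [Ideal.mem_comap, ← Ideal.Quotient.eq_zero_iff_mem]
    have h2 : Ideal.Quotient.mk I (σ a) = g a := DFunLike.congr_fun hσ a
    rw [h2]
    change algebraMap k (C ⧸ I) (ε a) = 0
    rw [show ε a = 0 from ha, map_zero]
  have h2 : σ (aeval x p) ∈ I ^ N := Ideal.le_comap_pow σ N (Ideal.pow_right_mono h1 N hp)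
  rw [← halg, σ.commutes, hIN, Ideal.mem_bot] at h2
  exact Ideal.Quotient.eq_zero_iff_mem.mp h2

theorem comap_aeval (hx : IsEtaleCoord k x) (ε : A →ₐ[k] k) (hεx : ∀ i, ε (x i) = 0) (N : ℕ) :
    ((RingHom.ker ε) ^ N).comap (aeval x : MvPolynomial (Fin m) k →ₐ[k] A) = (RingHom.ker (ev0 k m)) ^ N := by
  apply le_antisymm
  · intro p hp
    exact mem_pow_of_aeval_mem hx ε hεx N p hp
  · refine le_trans (Ideal.pow_right_mono ?_ N) (Ideal.le_comap_pow _ N)
    intro p hp
    exact (ε_aeval ε hεx p).trans hp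

theorem comap_pow (hx : IsEtaleCoord k x) (ε : A →ₐ[k] k) (hεx : ∀ i, ε (x i) = 0) {B : Type w} [CommRing B]
    [Algebra k B] (ψ : A →ₐ[k] B) (hψx : IsEtaleCoord k fun i => ψ (x i)) (ε' : B →ₐ[k] k)
    (hε' : ∀ a, ε' (ψ a) = ε a) (N : ℕ) : ((RingHom.ker ε') ^ N).comap ψ = (RingHom.ker ε) ^ N := by
  have h0 : (RingHom.ker ε) ^ N ≤ ((RingHom.ker ε') ^ N).comap ψ := by
    refine le_trans (Ideal.pow_right_mono ?_ N) (Ideal.le_comap_pow _ N)
    intro a ha
    exact (hε' a).trans ha
  refine le_antisymm (fun a ha => ?_) h0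
  obtain ⟨p, hp⟩ := Jet.exists_jet hx ε hεx N a
  have h1 : aeval (fun i => ψ (x i)) p = ψ (aeval x p) := (MvPolynomial.comp_aeval_apply x ψ p).symm
  have h2 : aeval (fun i => ψ (x i)) p ∈ (RingHom.ker ε') ^ N := by
    rw [h1]
    have h3 : ψ (aeval x p) = ψ a - ψ (a - aeval x p) := by
      rw [map_sub]
      ring
    rw [h3]
    exact sub_mem ha (h0 hp)
  have h3 := mem_pow_of_aeval_mem hψx ε' (fun i => (hε' _).trans (hεx i)) N p h2
  rw [← comap_aeval hx ε hεx N] at h3
  have h4 : a = (a - aeval x p) + aeval x p := by ring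
  rw [h4]
  exact add_mem hp h3

theorem surj_mod (ε : A →ₐ[k] k) (hεx : ∀ i, ε (x i) = 0) {B : Type w} [CommRing B]
    [Algebra k B] (ψ : A →ₐ[k] B) (hψx : IsEtaleCoord k fun i => ψ (x i)) (ε' : B →ₐ[k] k)
    (hε' : ∀ a, ε' (ψ a) = ε a) (N : ℕ) (b : B) : ∃ a : A, b - ψ a ∈ (RingHom.ker ε') ^ N := by
  obtain ⟨p, hp⟩ := Jet.exists_jet hψx ε' (fun i => (hε' _).trans (hεx i)) N b
  refine ⟨aeval x p, ?_⟩
  rwa [show ψ (aeval x p) = aeval (fun i => ψ (x i)) p from MvPolynomial.comp_aeval_apply x ψ p]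

theorem isEtaleCoord_X (k : Type v) [Field k] (m : ℕ) : IsEtaleCoord k (X : Fin m → MvPolynomial (Fin m) k) := by
  rw [IsEtaleCoord]
  refine RingHom.Etale.of_bijective ?_
  have h1 : (aeval (X : Fin m → MvPolynomial (Fin m) k) : MvPolynomial (Fin m) k →ₐ[k] _) = AlgHom.id k _ := by
    ext i
    simp
  rw [h1]
  exact Function.bijective_id

/-- The Jacobian ideal does not depend on the coordinates. -/
theorem span_pd_indep (hx : IsEtaleCoord k x) {n : ℕ} {y : Fin n → A} (hy : IsEtaleCoord k y) (b : A) :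
    Ideal.span (Set.range fun i => hx.pd i b) = Ideal.span (Set.range fun i => hy.pd i b) := by
  apply le_antisymm <;> rw [Ideal.span_le] <;> rintro _ ⟨i, rfl⟩
  · exact Isol.der_mem_span hy _ _
  · exact Isol.der_mem_span hx _ _

/-- The Milnor number of an isolated critical point and its polynomial model. -/
theorem exists_mu (hx : IsEtaleCoord k x) (ε : A →ₐ[k] k) (hεx : ∀ i, ε (x i) = 0) (h : A) (N : ℕ) (s : A)
    (hs : ε s = 1) (hJ : ∀ b ∈ (RingHom.ker ε) ^ N, s * b ∈ Ideal.span (Set.range fun i => hx.pd i h))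
    {B : Type w} [CommRing B] [Algebra k B] (ψ : A →ₐ[k] B) (hψ : ψ.toRingHom.Etale) (ε' : B →ₐ[k] k)
    (hε' : ∀ a, ε' (ψ a) = ε a) {y : Fin m → B} (hy : IsEtaleCoord k y) (hy0 : ∀ i, ε' (y i) = 0)
    (g : MvPolynomial (Fin m) k) (hg : aeval y g = ψ h) :
    (∃ r : MvPolynomial (Fin m) k, ev0 k m r = 1 ∧ ∀ b ∈ (RingHom.ker (ev0 k m)) ^ N,
      r * b ∈ Ideal.span (Set.range fun i => pderiv i g)) ∧
    Module.finrank k (A ⧸ (Ideal.span (Set.range fun i => hx.pd i h) ⊔ (RingHom.ker ε) ^ N)) =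
      Module.finrank k (MvPolynomial (Fin m) k ⧸ (Ideal.span (Set.range fun i => pderiv i g) ⊔
        (RingHom.ker (ev0 k m)) ^ N)) := by
  have hψx : IsEtaleCoord k fun i => ψ (x i) := hx.comp ψ hψ
  set J := Ideal.span (Set.range fun i => hx.pd i h) with hJdef
  set Jg := Ideal.span (Set.range fun i => pderiv i g) with hJg
  have h1 : J.map ψ = Jg.map (aeval y : MvPolynomial (Fin m) k →ₐ[k] B) := by
    have h2 : J.map ψ = Ideal.span (Set.range fun i => hψx.pd i (ψ h)) := by
      rw [hJdef, Ideal.map_span, ← Set.range_comp]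
      congr 2
      ext i
      exact (Isol.pd_comp hx ψ hψx i h).symm
    have h3 : Jg.map (aeval y : MvPolynomial (Fin m) k →ₐ[k] B) =
        Ideal.span (Set.range fun i => hy.pd i (ψ h)) := by
      rw [hJg, Ideal.map_span, ← Set.range_comp]
      congr 2
      ext i
      rw [← hg]
      exact (Det.pd_aeval hy g i).symm
    rw [h2, h3]
    exact span_pd_indep _ _ _
  have hcy := comap_aeval hy ε' hy0
  have hsy : ∀ M, ∀ z : B, ∃ p : MvPolynomial (Fin m) k, z - aeval y p ∈ (RingHom.ker ε') ^ M := fun M z =>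
    Jet.exists_jet hy ε' hy0 M z
  have hcψ := comap_pow hx ε hεx ψ hψx ε' hε'
  have hsψ := surj_mod ε hεx ψ hψx ε' hε'
  refine ⟨?_, ?_⟩
  · have h2 : (RingHom.ker (ev0 k m)) ^ N ≤ Jg ⊔ (RingHom.ker (ev0 k m)) ^ (N + 1) := by
      intro p hp
      have h3 : aeval y p ∈ (RingHom.ker ε') ^ N := by
        rw [← hcy N] at hp
        exact hp
      obtain ⟨a, ha⟩ := hsψ (N + 1) (aeval y p)
      have h4 : a ∈ (RingHom.ker ε) ^ N := by
        rw [← hcψ N, Ideal.mem_comap]
        have : ψ a = aeval y p - (aeval y p - ψ a) := by ring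
        rw [this]
        exact sub_mem h3 (Ideal.pow_le_pow_right (Nat.le_succ N) ha)
      have h5 : a ∈ J ⊔ (RingHom.ker ε) ^ (N + 1) := by
        have : a = s * a + (1 - s) * a := by ring
        rw [this]
        refine add_mem (Ideal.mem_sup_left (hJ a h4)) (Ideal.mem_sup_right ?_)
        rw [pow_succ']
        refine Ideal.mul_mem_mul ?_ h4
        rw [RingHom.mem_ker, map_sub, map_one, hs]
        exact sub_self _
      have h6 : aeval y p ∈ Jg.map (aeval y : MvPolynomial (Fin m) k →ₐ[k] B) ⊔ (RingHom.ker ε') ^ (N + 1) := by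
        rw [← comap_sup ψ _ _ (hcψ (N + 1)) (hsψ (N + 1)) J, Ideal.mem_comap, h1] at h5
        have : aeval y p = ψ a + (aeval y p - ψ a) := by ring
        rw [this]
        exact add_mem h5 (Ideal.mem_sup_right ha)
      rw [← comap_sup _ _ _ (hcy (N + 1)) (hsy (N + 1)) Jg]
      exact h6
    exact Jet.exists_mul_mem (ev0 k m) N ((RingHom.ker (ev0 k m)) ^ N) Jg 1 (map_one _)
      (fun b hb => by rwa [one_mul]) h2
  · rw [finrank_eq ψ _ _ (hcψ N) (hsψ N) J, finrank_eq _ _ _ (hcy N) (hsy N) Jg, h1]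

end coord

section jac

/-- A derivation vanishing on a subring over which the ring is formally unramified is zero. -/
theorem der_eq_zero_of_unram {k : Type v} {R : Type u} {S : Type w} {M : Type*} [CommRing k] [CommRing R] [CommRing S]
    [Algebra k R] [Algebra k S] [Algebra R S] [IsScalarTower k R S] [Algebra.FormallyUnramified R S] [AddCommGroup M]
    [Module k M] [Module S M] [IsScalarTower k S M] (d : Derivation k S M) (hd : ∀ r, d (algebraMap R S r) = 0) :
    d = 0 := by
  letI : Module R M := Module.compHom M (algebraMap R S)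
  haveI : IsScalarTower R S M := ⟨fun r s t => by
    rw [Algebra.smul_def, mul_smul]
    rfl⟩
  let d' : Derivation R S M := Derivation.mk'
    { toFun := d
      map_add' := d.map_add
      map_smul' := fun r s => by
        rw [Algebra.smul_def, d.leibniz, hd, smul_zero, add_zero]
        rfl }
    (fun a b => d.leibniz a b)
  have h1 : d'.liftKaehlerDifferential = 0 := by
    haveI : Subsingleton (Ω[S⁄R]) := inferInstance
    refine LinearMap.ext fun z => ?_
    rw [Subsingleton.elim z 0, map_zero, map_zero]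
  ext s
  have h2 : d' s = 0 := by
    rw [← Derivation.liftKaehlerDifferential_comp_D, h1]
    rfl
  exact h2

variable {k : Type v} [Field k] {m : ℕ} {A : Type u} [CommRing A] [Algebra k A] {x : Fin m → A}

/-- The ideal generated by the derivatives of an element in a localization. -/
theorem span_der_eq_map (hx : IsEtaleCoord k x) (O : Type w) [CommRing O] [Algebra k O] [Algebra A O]
    [IsScalarTower k A O] (M : Submonoid A) [IsLocalization M O] (h : A) :
    Ideal.span {b : O | ∃ D : Derivation k O O, b = D (algebraMap A O h)} =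
      (Ideal.span (Set.range fun i => hx.pd i h)).map (algebraMap A O) := by
  haveI : Algebra.FormallyEtale A O := Algebra.FormallyEtale.of_isLocalization M
  apply le_antisymm
  · rw [Ideal.span_le]
    rintro _ ⟨D, rfl⟩
    have h1 := Isol.der_eq_sum hx (D.compAlgebraMap A) h
    have h2 : D (algebraMap A O h) = ∑ i, hx.pd i h • (D.compAlgebraMap A) (x i) := h1
    change D (algebraMap A O h) ∈ _
    rw [h2]
    refine Submodule.sum_mem _ fun i _ => ?_
    rw [Algebra.smul_def]
    exact Ideal.mul_mem_right _ _ (Ideal.mem_map_of_mem _ (Ideal.subset_span ⟨i, rfl⟩))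
  · rw [Ideal.map_span, Ideal.span_le]
    rintro _ ⟨_, ⟨i, rfl⟩, rfl⟩
    obtain ⟨D, hD⟩ := Isol.exists_extend (k := k) (R := A) (C := O)
      ((Algebra.linearMap A O).compDer (hx.pd i))
    refine Ideal.subset_span ⟨D, ?_⟩
    rw [hD]
    rfl

/-- The Jacobian ideal of the prelude in coordinates. -/
theorem jac_eq (hx : IsEtaleCoord k x) (O : Type w) [CommRing O] [Algebra k O] [Algebra A O]
    [IsScalarTower k A O] (M : Submonoid A) [IsLocalization M O] {R₀ : Type u} [CommRing R₀] [Algebra k R₀]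
    (t : Fin 1 → R₀) (ht : IsEtaleCoord k t) (OS : Type w) [CommRing OS] [IsLocalRing OS] [Algebra k OS]
    [Algebra R₀ OS] [IsScalarTower k R₀ OS] (MS : Submonoid R₀) [IsLocalization MS OS]
    (htm : algebraMap R₀ OS (t 0) ∈ IsLocalRing.maximalIdeal OS)
    (θ : R₀ →ₐ[k] A) (φ : OS →+* O) (hφ : ∀ r, φ (algebraMap R₀ OS r) = algebraMap A O (θ r)) :
    Ideal.span {b : O | ∃ (D : Derivation k O O) (a : OS), a ∈ IsLocalRing.maximalIdeal OS ∧ b = D (φ a)} =
      (Ideal.span (Set.range fun i => hx.pd i (θ (t 0)))).map (algebraMap A O) := by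
  rw [← span_der_eq_map hx O M]
  haveI : Algebra.FormallyEtale R₀ OS := Algebra.FormallyEtale.of_isLocalization MS
  letI : Algebra OS O := φ.toAlgebra
  haveI : IsScalarTower k OS O := IsScalarTower.of_algebraMap_eq fun r => by
    change _ = φ (algebraMap k OS r)
    rw [IsScalarTower.algebraMap_apply k R₀ OS, hφ, AlgHom.commutes, ← IsScalarTower.algebraMap_apply]
  letI : Algebra R₀ O := ((algebraMap A O).comp θ.toRingHom).toAlgebra
  haveI : IsScalarTower R₀ OS O := IsScalarTower.of_algebraMap_eq fun r => (hφ r).symm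
  haveI : IsScalarTower k R₀ O := IsScalarTower.of_algebraMap_eq fun r => by
    change _ = algebraMap A O (θ (algebraMap k R₀ r))
    rw [AlgHom.commutes, ← IsScalarTower.algebraMap_apply]
  apply le_antisymm
  · rw [Ideal.span_le]
    rintro _ ⟨D, a, -, rfl⟩
    obtain ⟨E, hE⟩ := Isol.exists_extend (k := k) (R := R₀) (C := OS)
      ((Algebra.linearMap R₀ OS).compDer (ht.pd 0))
    let c : O := D (φ (algebraMap R₀ OS (t 0)))
    let d₁ : Derivation k OS O := D.compAlgebraMap OS
    let d₂ : Derivation k OS O := (LinearMap.toSpanSingleton OS O c).compDer E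
    have h1 : d₁ - d₂ = 0 := by
      refine der_eq_zero_of_unram (R := R₀) _ fun r => ?_
      let e₁ : Derivation k R₀ O := d₁.compAlgebraMap R₀
      let e₂ : Derivation k R₀ O := d₂.compAlgebraMap R₀
      have h2 : e₁ = e₂ := ht.der_ext _ _ fun j => by
        obtain rfl : j = 0 := Subsingleton.elim _ _
        change D (φ (algebraMap R₀ OS (t 0))) = E (algebraMap R₀ OS (t 0)) • c
        rw [hE]
        change _ = algebraMap R₀ OS (ht.pd 0 (t 0)) • c
        rw [ht.pd_coord, if_pos rfl, map_one, one_smul]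
      have h3 : d₁ (algebraMap R₀ OS r) = d₂ (algebraMap R₀ OS r) := DFunLike.congr_fun h2 r
      rw [Derivation.sub_apply, h3, sub_self]
    have h4 : D (φ a) = E a • c := by
      have := DFunLike.congr_fun h1 a
      rw [Derivation.sub_apply, Derivation.zero_apply, sub_eq_zero] at this
      exact this
    change D (φ a) ∈ _
    rw [h4, Algebra.smul_def]
    refine Ideal.mul_mem_left _ _ (Ideal.subset_span ⟨D, ?_⟩)
    change D (φ (algebraMap R₀ OS (t 0))) = _
    rw [hφ]
  · rw [Ideal.span_le]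
    rintro _ ⟨D, rfl⟩
    refine Ideal.subset_span ⟨D, algebraMap R₀ OS (t 0), htm, ?_⟩
    rw [hφ]

end jac

end Groth.Agent.Vancyc.H155.Mu
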