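import Groth.Agent.Vancyc.H155.Chart
import Groth.Agent.Vancyc.H155.Mu
import Groth.Prelude.Def_Milnor

/-!
# Finite determinacy: étale coordinates on affine opens, the Milnor number in coordinates
-/

set_option autoImplicit false
set_option linter.style.haveILetI false

namespace Groth.Agent.Vancyc.H155.AffChart

open CategoryTheory CategoryTheory.Limits AlgebraicGeometry Groth.Agent.CurvesC.NodeEt

universe u v

variable {k : Type u} [Field k] {X : Scheme.{u}}

/-- The `k`-algebra structure on the sections over an open subset. -/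
noncomputable abbrev secAlg (p : X ⟶ Spec (CommRingCat.of k)) (V : X.Opens) : Algebra k Γ(X, V) :=
  ((Scheme.ΓSpecIso (CommRingCat.of k)).inv ≫ p.appLE ⊤ V le_top).hom.toAlgebra

theorem secAlg_algebraMap (p : X ⟶ Spec (CommRingCat.of k)) (V : X.Opens) :
    letI := secAlg p V
    CommRingCat.ofHom (algebraMap k Γ(X, V)) = (Scheme.ΓSpecIso (CommRingCat.of k)).inv ≫ p.appLE ⊤ V le_top := rfl

/-- Restriction is `k`-linear. -/
noncomputable def res (p : X ⟶ Spec (CommRingCat.of k)) {V W : X.Opens} (h : V ≤ W) :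
    letI := secAlg p V
    letI := secAlg p W
    Γ(X, W) →ₐ[k] Γ(X, V) :=
  letI := secAlg p V
  letI := secAlg p W
  { (X.presheaf.map (homOfLE h).op).hom with
    commutes' := fun r => by
      change (X.presheaf.map (homOfLE h).op).hom (((Scheme.ΓSpecIso (CommRingCat.of k)).inv ≫
        p.appLE ⊤ W le_top).hom r) = ((Scheme.ΓSpecIso (CommRingCat.of k)).inv ≫ p.appLE ⊤ V le_top).hom r
      rw [← p.appLE_map le_top (homOfLE h).op]
      rfl }

/-- The pull-back of functions is `k`-linear. -/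
noncomputable def pb {S : Scheme.{u}} (pS : S ⟶ Spec (CommRingCat.of k)) (pX : X ⟶ Spec (CommRingCat.of k))
    (f : X ⟶ S) (hf : f ≫ pS = pX) (V : S.Opens) (W : X.Opens) (h : W ≤ f ⁻¹ᵁ V) :
    letI := secAlg pS V
    letI := secAlg pX W
    Γ(S, V) →ₐ[k] Γ(X, W) :=
  letI := secAlg pS V
  letI := secAlg pX W
  { (f.appLE V W h).hom with
    commutes' := fun r => by
      subst hf
      change (f.appLE V W h).hom (((Scheme.ΓSpecIso (CommRingCat.of k)).inv ≫
        pS.appLE ⊤ V le_top).hom r) = ((Scheme.ΓSpecIso (CommRingCat.of k)).inv ≫ (f ≫ pS).appLE ⊤ W le_top).hom r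
      rw [← Scheme.Hom.appLE_comp_appLE f pS ⊤ V W le_top h]
      rfl }

theorem fromSpec_comp (p : X ⟶ Spec (CommRingCat.of k)) {V : X.Opens} (hV : IsAffineOpen V) :
    letI := secAlg p V
    hV.fromSpec ≫ p = Spec.map (CommRingCat.ofHom (algebraMap k Γ(X, V))) := by
  rw [secAlg_algebraMap, Spec.map_comp, ← IsAffineOpen.SpecMap_appLE_fromSpec p (isAffineOpen_top _) hV le_top]
  congr 1
  rw [IsAffineOpen.fromSpec_top, Scheme.isoSpec_Spec_inv]

theorem exists_affine_chart (p : X ⟶ Spec (CommRingCat.of k)) (n : ℕ)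
    [hp : SmoothOfRelativeDimension n p] {x₀ : X} {O : X.Opens} (hO : x₀ ∈ O) :
    ∃ (V : X.Opens) (_ : IsAffineOpen V), x₀ ∈ V ∧ V ≤ O ∧
      (letI := secAlg p V
      ∃ x : Fin n → Γ(X, V), IsEtaleCoord k x) := by
  obtain ⟨U, hU, V₀, hV₀, hxV₀, e, H⟩ := hp.exists_isStandardSmoothOfRelativeDimension x₀
  obtain rfl : U = ⊤ := by
    rw [eq_top_iff]
    intro z _
    have : z = p x₀ := Subsingleton.elim _ _
    rw [this]
    exact e hxV₀
  obtain ⟨s, hs, hxs⟩ := hV₀.exists_basicOpen_le (⟨x₀, hO⟩ : O) hxV₀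
  refine ⟨X.basicOpen s, hV₀.basicOpen s, hxs, hs, ?_⟩
  letI := secAlg p V₀
  letI := secAlg p (X.basicOpen s)
  haveI : Algebra.IsStandardSmoothOfRelativeDimension n k Γ(X, V₀) := by
    change ((p.appLE ⊤ V₀ le_top).hom.comp (Scheme.ΓSpecIso (CommRingCat.of k)).inv.hom).IsStandardSmoothOfRelativeDimension n
    exact RingHom.isStandardSmoothOfRelativeDimension_respectsIso.2 _
      (Scheme.ΓSpecIso (CommRingCat.of k)).symm.commRingCatIsoToRingEquiv H
  obtain ⟨g, hg⟩ := Algebra.IsStandardSmoothOfRelativeDimension.exists_etale_mvPolynomial n k Γ(X, V₀)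
  have h1 : IsEtaleCoord k fun i => g (MvPolynomial.X i) := by
    have h2 : (MvPolynomial.aeval fun i => g (MvPolynomial.X i)) = g := by
      ext i
      simp
    rw [IsEtaleCoord, h2]
    exact hg
  refine ⟨fun i => res p (X.basicOpen_le s) (g (MvPolynomial.X i)), h1.comp (res p (X.basicOpen_le s)) ?_⟩
  have h2 := hV₀.isLocalization_basicOpen s
  have h3 : (algebraMap Γ(X, V₀) Γ(X, X.basicOpen s)).Etale :=
    RingHom.etale_algebraMap.mpr (Algebra.Etale.of_isLocalizationAway s)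
  exact h3

/-- The germ map is `k`-linear for the prelude's algebra structure on the stalk. -/
theorem germ_algebraMap (p : X ⟶ Spec (CommRingCat.of k)) (V : X.Opens) (x₀ : X) (hx₀ : x₀ ∈ V) (r : k) :
    letI := secAlg p V
    letI := VanCyc.stalkAlgebra p x₀
    algebraMap k (X.presheaf.stalk x₀) r = (X.presheaf.germ V x₀ hx₀).hom (algebraMap k Γ(X, V) r) := by
  change (X.presheaf.germ ⊤ x₀ trivial).hom ((p.appTop).hom ((Scheme.ΓSpecIso (CommRingCat.of k)).inv.hom r)) =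
    (X.presheaf.germ V x₀ hx₀).hom ((p.appLE ⊤ V le_top).hom ((Scheme.ΓSpecIso (CommRingCat.of k)).inv.hom r))
  have h1 : p.appTop ≫ X.presheaf.germ ⊤ x₀ trivial = p.appLE ⊤ V le_top ≫ X.presheaf.germ V x₀ hx₀ := by
    rw [Scheme.Hom.appLE, Category.assoc, TopCat.Presheaf.germ_res]
    rfl
  exact DFunLike.congr_fun (congrArg CommRingCat.Hom.hom h1) _

/-- The Jacobian ideal in coordinates. -/
theorem jacIdeal_eq {m : ℕ} {S : Scheme.{u}} (pS : S ⟶ Spec (CommRingCat.of k)) (pX : X ⟶ Spec (CommRingCat.of k))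
    (f : X ⟶ S) (hf : f ≫ pS = pX) (x₀ : X) {V : S.Opens} (hV : IsAffineOpen V) {W : X.Opens} (hW : IsAffineOpen W)
    (h : W ≤ f ⁻¹ᵁ V) (hx₀ : x₀ ∈ W) :
    letI := secAlg pS V
    letI := secAlg pX W
    ∀ (t : Fin 1 → Γ(S, V)) (_ : IsEtaleCoord k t) (x : Fin m → Γ(X, W)) (hx : IsEtaleCoord k x)
      (_ : (S.presheaf.germ V (f x₀) (h hx₀)).hom (t 0) ∈ IsLocalRing.maximalIdeal _),
      VanCyc.jacIdeal pX f x₀ = (Ideal.span (Set.range fun i => hx.pd i (pb pS pX f hf V W h (t 0)))).map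
        (X.presheaf.germ W x₀ hx₀).hom := by
  letI := secAlg pS V
  letI := secAlg pX W
  intro t ht x hx htm
  letI : Algebra k (X.presheaf.stalk x₀) := VanCyc.stalkAlgebra pX x₀
  letI : Algebra k (S.presheaf.stalk (f x₀)) := VanCyc.stalkAlgebra pS (f x₀)
  letI : Algebra Γ(X, W) (X.presheaf.stalk x₀) := (X.presheaf.germ W x₀ hx₀).hom.toAlgebra
  letI : Algebra Γ(S, V) (S.presheaf.stalk (f x₀)) := (S.presheaf.germ V (f x₀) (h hx₀)).hom.toAlgebra
  haveI : IsScalarTower k Γ(X, W) (X.presheaf.stalk x₀) :=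
    IsScalarTower.of_algebraMap_eq fun r => germ_algebraMap pX W x₀ hx₀ r
  haveI : IsScalarTower k Γ(S, V) (S.presheaf.stalk (f x₀)) :=
    IsScalarTower.of_algebraMap_eq fun r => germ_algebraMap pS V (f x₀) (h hx₀) r
  haveI h1 : IsLocalization (hW.primeIdealOf ⟨x₀, hx₀⟩).asIdeal.primeCompl (X.presheaf.stalk x₀) :=
    hW.isLocalization_stalk ⟨x₀, hx₀⟩
  haveI h2 : IsLocalization (hV.primeIdealOf ⟨f x₀, h hx₀⟩).asIdeal.primeCompl (S.presheaf.stalk (f x₀)) :=
    hV.isLocalization_stalk ⟨f x₀, h hx₀⟩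
  exact Mu.jac_eq hx (X.presheaf.stalk x₀) (hW.primeIdealOf ⟨x₀, hx₀⟩).asIdeal.primeCompl t ht
    (S.presheaf.stalk (f x₀)) (hV.primeIdealOf ⟨f x₀, h hx₀⟩).asIdeal.primeCompl htm (pb pS pX f hf V W h)
    (f.stalkMap x₀).hom (fun r => by
      have h3 : S.presheaf.germ V (f x₀) (h hx₀) ≫ f.stalkMap x₀ =
          f.appLE V W h ≫ X.presheaf.germ W x₀ hx₀ := by
        rw [Scheme.Hom.germ_stalkMap, Scheme.Hom.appLE, Category.assoc, TopCat.Presheaf.germ_res]
      exact DFunLike.congr_fun (congrArg CommRingCat.Hom.hom h3) r)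

end Groth.Agent.Vancyc.H155.AffChart
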