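import Groth.Agent.Vancyc.H155.Isol
import Mathlib.AlgebraicGeometry.Morphisms.Smooth
import Mathlib.AlgebraicGeometry.Morphisms.Etale
import Mathlib.FieldTheory.IsAlgClosed.Basic
import Mathlib.RingTheory.Jacobson.Ring
import Mathlib.RingTheory.RingHom.StandardSmooth

/-!
# Finite determinacy: étale coordinates on smooth schemes
-/

set_option autoImplicit false
set_option linter.style.haveILetI false

namespace Groth.Agent.Vancyc.H155.Chart

open CategoryTheory CategoryTheory.Limits AlgebraicGeometry Groth.Agent.CurvesC.NodeEt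

universe u v

section alg

variable {k : Type v} [Field k] {m : ℕ} {A : Type u} [CommRing A] [Algebra k A] {x : Fin m → A}

/-- Étale coordinates can be translated. -/
theorem translate (hx : IsEtaleCoord k x) (c : Fin m → k) : IsEtaleCoord k fun i => x i - algebraMap k A (c i) := by
  haveI := hx.smooth
  refine isEtaleCoord_of_basis _ hx.basis fun i => ?_
  rw [hx.basis_apply, map_sub, Derivation.map_algebraMap, sub_zero]

/-- Nullstellensatz. -/
theorem exists_point [IsAlgClosed k] [Algebra.FiniteType k A] (M : Ideal A) [hM : M.IsMaximal] :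
    ∃ ε : A →ₐ[k] k, RingHom.ker ε = M := by
  let F := A ⧸ M
  let _ : Field F := Ideal.Quotient.field M
  have h1 : Algebra.FiniteType k F := inferInstance
  have h2 : Module.Finite k F := finite_of_finite_type_of_isJacobsonRing k F
  have h3 : Function.Bijective (algebraMap k F) :=
    IsAlgClosed.algebraMap_bijective_of_isIntegral
  let e : k ≃ₐ[k] F := AlgEquiv.ofBijective (Algebra.ofId k F) h3
  refine ⟨(e.symm : F →ₐ[k] k).comp (Ideal.Quotient.mkₐ k M), ?_⟩
  ext c
  rw [RingHom.mem_ker]
  change e.symm (Ideal.Quotient.mk M c) = 0 ↔ c ∈ M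
  rw [map_eq_zero_iff _ e.symm.injective]
  exact Ideal.Quotient.eq_zero_iff_mem

/-- One étale coordinate is an étale map from the polynomial ring. -/
theorem polynomial_etale {x : Fin 1 → A} (hx : IsEtaleCoord k x) :
    (Polynomial.aeval (x 0) : Polynomial k →ₐ[k] A).toRingHom.Etale := by
  let e : Polynomial k →ₐ[k] MvPolynomial (Fin 1) k := Polynomial.aeval (MvPolynomial.X 0)
  let e' : MvPolynomial (Fin 1) k →ₐ[k] Polynomial k := MvPolynomial.aeval fun _ => Polynomial.X
  have h1 : e'.comp e = AlgHom.id k _ := by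
    ext
    simp [e, e']
  have h2 : e.comp e' = AlgHom.id k _ := by
    ext i
    obtain rfl : i = 0 := Subsingleton.elim _ _
    simp [e, e']
  have he : e.toRingHom.Etale := RingHom.Etale.of_bijective
    ⟨fun a b hab => by
      have := congrArg e' hab
      change (e'.comp e) a = (e'.comp e) b at this
      rwa [h1] at this, fun b => ⟨e' b, DFunLike.congr_fun h2 b⟩⟩
  have h3 : (Polynomial.aeval (x 0) : Polynomial k →ₐ[k] A).toRingHom =
      (MvPolynomial.aeval x : MvPolynomial (Fin 1) k →ₐ[k] A).toRingHom.comp e.toRingHom := by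
    have h4 : (Polynomial.aeval (x 0) : Polynomial k →ₐ[k] A) =
        (MvPolynomial.aeval x : MvPolynomial (Fin 1) k →ₐ[k] A).comp e := by
      ext
      simp [e]
    rw [h4]
    rfl
  rw [h3]
  exact etale_comp he hx

end alg

/-- Étale coordinates exist locally on smooth schemes. -/
theorem exists_chart {k : Type u} [Field k] {X : Scheme.{u}} (p : X ⟶ Spec (CommRingCat.of k)) (n : ℕ)
    [hp : SmoothOfRelativeDimension n p] {x₀ : X} {O : X.Opens} (hO : x₀ ∈ O) :
    ∃ (A : Type u) (_ : CommRing A) (_ : Algebra k A) (j : Spec (CommRingCat.of A) ⟶ X) (x : Fin n → A),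
      IsOpenImmersion j ∧ j ≫ p = Spec.map (CommRingCat.ofHom (algebraMap k A)) ∧ IsEtaleCoord k x ∧
      x₀ ∈ Set.range j ∧ Set.range j ⊆ (O : Set X) := by
  obtain ⟨R, f, hf, ⟨y, hy⟩, hR⟩ := Scheme.exists_affine_mem_range_and_range_subset hO
  obtain ⟨φ, hφ⟩ : ∃ φ : CommRingCat.of k ⟶ R, Spec.map φ = f ≫ p := ⟨Spec.preimage (f ≫ p), Spec.map_preimage _⟩
  have h1 : SmoothOfRelativeDimension (0 + n) (f ≫ p) := inferInstance
  rw [zero_add, ← hφ] at h1
  obtain ⟨s, hs, H⟩ := (HasRingHomProperty.Spec_iff (P := @SmoothOfRelativeDimension n)).mp h1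
  obtain ⟨t, ht, hty⟩ : ∃ t ∈ s, t ∉ y.asIdeal := by
    by_contra hcon
    push Not at hcon
    have h2 : Ideal.span s ≤ y.asIdeal := Ideal.span_le.mpr hcon
    rw [hs] at h2
    exact y.isPrime.ne_top (top_le_iff.mp h2)
  let A := Localization.Away t
  letI : Algebra k A := ((algebraMap R A).comp φ.hom).toAlgebra
  haveI : Algebra.IsStandardSmoothOfRelativeDimension n k A := H t ht
  obtain ⟨g, hg⟩ := Algebra.IsStandardSmoothOfRelativeDimension.exists_etale_mvPolynomial n k A
  refine ⟨A, inferInstance, inferInstance, Spec.map (CommRingCat.ofHom (algebraMap R A)) ≫ f,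
    fun i => g (MvPolynomial.X i), inferInstance, ?_, ?_, ?_, ?_⟩
  · rw [Category.assoc, ← hφ, ← Spec.map_comp]
    congr 1
  · have h2 : (MvPolynomial.aeval fun i => g (MvPolynomial.X i)) = g := by
      ext i
      simp
    rw [IsEtaleCoord, h2]
    exact hg
  · have h2 : y ∈ Set.range (Spec.map (CommRingCat.ofHom (algebraMap R A))) := by
      have h3 := PrimeSpectrum.localization_away_comap_range A t
      have h4 : y ∈ Set.range (PrimeSpectrum.comap (algebraMap R A)) := by
        rw [h3]
        exact hty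
      exact h4
    obtain ⟨z, hz⟩ := h2
    refine ⟨z, ?_⟩
    rw [Scheme.Hom.comp_apply, hz, hy]
  · rintro _ ⟨z, rfl⟩
    rw [Scheme.Hom.comp_apply]
    exact hR ⟨_, rfl⟩

/-- Centred étale coordinates near a closed point. -/
theorem exists_chart_point {k : Type u} [Field k] [IsAlgClosed k] {X : Scheme.{u}} (p : X ⟶ Spec (CommRingCat.of k))
    (n : ℕ) [SmoothOfRelativeDimension n p] {x₀ : X} {O : X.Opens} (hO : x₀ ∈ O)
    (hx₀ : IsClosed ({x₀} : Set X)) :
    ∃ (A : Type u) (_ : CommRing A) (_ : Algebra k A) (j : Spec (CommRingCat.of A) ⟶ X) (x : Fin n → A)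
      (ε : A →ₐ[k] k), IsOpenImmersion j ∧ j ≫ p = Spec.map (CommRingCat.ofHom (algebraMap k A)) ∧
      IsEtaleCoord k x ∧ (∀ i, ε (x i) = 0) ∧ (∃ y : Spec (CommRingCat.of A), y.asIdeal = RingHom.ker ε ∧ j y = x₀) ∧
      Set.range j ⊆ (O : Set X) := by
  obtain ⟨A, _, _, j, x, hj, hjp, hx, ⟨y, hy⟩, hO'⟩ := exists_chart p n hO
  haveI : Algebra.Smooth k A := hx.smooth
  have hyc : IsClosed ({y} : Set (Spec (CommRingCat.of A))) := by
    have h1 : ({y} : Set (Spec (CommRingCat.of A))) = j ⁻¹' {x₀} := by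
      ext z
      constructor
      · rintro rfl
        exact hy
      · intro hz
        exact j.isOpenEmbedding.injective (hz.trans hy.symm)
    rw [h1]
    exact hx₀.preimage j.continuous
  haveI : y.asIdeal.IsMaximal := (PrimeSpectrum.isClosed_singleton_iff_isMaximal y).mp hyc
  obtain ⟨ε, hε⟩ := exists_point (k := k) y.asIdeal
  refine ⟨A, inferInstance, inferInstance, j, fun i => x i - algebraMap k A (ε (x i)), ε, hj, hjp,
    translate hx _, fun i => ?_, ⟨y, hε.symm, hy⟩, hO'⟩
  rw [map_sub, AlgHom.commutes]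
  exact sub_self _

/-- Cancellation of a monomorphism for smoothness. -/
theorem smooth_of_comp_mono {X Y Z : Scheme.{u}} (f : X ⟶ Y) (g : Y ⟶ Z) [Mono g] [h : Smooth (f ≫ g)] : Smooth f := by
  have sq : IsPullback (𝟙 X) f (f ≫ g) g := by
    refine ⟨⟨by simp⟩, ⟨PullbackCone.IsLimit.mk _ (fun s => s.fst) (fun s => by simp) (fun s => ?_) (fun s m h1 h2 => ?_)⟩⟩
    · rw [← cancel_mono g, Category.assoc, s.condition]
    · simpa using h1
  exact MorphismProperty.of_isPullback (P := @Smooth) sq h

end Groth.Agent.Vancyc.H155.Chart
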