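import Groth.Agent.Vancyc.H155.Tougeron

/-!
# Finite determinacy: the étale coordinates after Tougeron's change of variables
-/

set_option autoImplicit false
set_option linter.style.haveILetI false

namespace Groth.Agent.Vancyc.H155.Coord

open MvPolynomial Groth.Agent.CurvesC.NodeEt

universe u v w

/-- A derivation maps `I ^ 2` into `I`. -/
theorem der_mem {k : Type v} {B : Type u} [CommRing k] [CommRing B] [Algebra k B] (d : Derivation k B B) (I : Ideal B)
    {b : B} (hb : b ∈ I ^ 2) : d b ∈ I := by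
  rw [pow_two] at hb
  refine Submodule.mul_induction_on hb ?_ ?_
  · intro x hx y hy
    rw [d.leibniz, smul_eq_mul, smul_eq_mul]
    exact I.add_mem (I.mul_mem_right _ hx) (I.mul_mem_right _ hy)
  · intro x y hx hy
    rw [map_add]
    exact I.add_mem hx hy

/-- Localization at one element is étale. -/
theorem etale_away {A : Type u} [CommRing A] (a : A) : Algebra.Etale A (Localization.Away a) :=
  Algebra.Etale.of_isLocalizationAway a

theorem exists_coord {k : Type v} [Field k] {m : ℕ} (A : Type u) [CommRing A] [Algebra k A] (x : Fin m → A)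
    (hx : IsEtaleCoord k x) (ε : A →ₐ[k] k) (hεx : ∀ i, ε (x i) = 0) (g : MvPolynomial (Fin m) k)
    (a : Fin m → Fin m → A) (ha : ∀ l r, a l r ∈ (RingHom.ker ε) ^ 2) :
    ∃ (B : Type u) (_ : CommRing B) (_ : Algebra k B) (ψ : A →ₐ[k] B)
      (y : Fin m → B) (ε' : B →ₐ[k] k), ψ.toRingHom.Etale ∧ (∀ b : A, ε' (ψ b) = ε b) ∧
      IsEtaleCoord k y ∧ (∀ i, ε' (y i) = 0) ∧
      aeval y g = ψ (aeval x g + ∑ l, ∑ r, a l r * aeval x (pderiv l g) * aeval x (pderiv r g)) := by
  obtain ⟨B, _, _, _, _, c, hB, hg, hc, hK⟩ := Tougeron.exists_etale.{u, v, v} A x g a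
  letI : Algebra A k := ε.toRingHom.toAlgebra
  haveI : IsScalarTower k A k := IsScalarTower.of_algebraMap_eq fun r => (ε.commutes r).symm
  have ha0 : ∀ l r, ε (a l r) = 0 := fun l r => by
    have : a l r ∈ RingHom.ker ε := Ideal.pow_le_self two_ne_zero (ha l r)
    exact this
  obtain ⟨ε₁, hε₁⟩ := hK k (fun l r => ha0 l r)
  have hε₁A : ∀ b : A, ε₁ (algebraMap A B b) = ε b := fun b => ε₁.commutes b
  let ε₁' : B →ₐ[k] k := ε₁.restrictScalars k
  set y₁ : Fin m → B := fun i => algebraMap A B (x i) + ∑ j, c i j * algebraMap A B (aeval x (pderiv j g)) with hy₁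
  have hεy : ∀ i, ε₁' (y₁ i) = 0 := by
    intro i
    change ε₁ (y₁ i) = 0
    simp only [hy₁, map_add, map_sum, map_mul, hε₁, zero_mul, Finset.sum_const_zero, add_zero, hε₁A, hεx]
  have hx₁ : IsEtaleCoord k (fun i => algebraMap A B (x i)) :=
    hx.comp (IsScalarTower.toAlgHom k A B) (RingHom.etale_algebraMap.mpr hB)
  let n : Ideal B := RingHom.ker ε₁'
  have hcn : ∀ i j, c i j ∈ n ^ 2 := by
    intro i j
    have h1 : c i j = (c i j - algebraMap A B (a i j)) + algebraMap A B (a i j) := by ring
    rw [h1]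
    refine Ideal.add_mem _ (Ideal.pow_right_mono ?_ 2 (hc i j)) ?_
    · rw [Ideal.span_le]
      rintro _ ⟨p, rfl⟩
      exact hε₁ _ _
    · have h2 : (RingHom.ker ε) ^ 2 ≤ (n ^ 2).comap (algebraMap A B) := by
        refine le_trans (Ideal.pow_right_mono ?_ 2) (Ideal.le_comap_pow (algebraMap A B) 2)
        intro b hb
        exact (hε₁A b).trans hb
      exact h2 (ha i j)
  let M : Matrix (Fin m) (Fin m) B := Matrix.of fun i j => hx₁.pd i (y₁ j)
  have hM : M.map ε₁' = 1 := by
    ext i j
    change ε₁' (hx₁.pd i (y₁ j)) = _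
    have h1 : hx₁.pd i (y₁ j) = (if i = j then 1 else 0) +
        ∑ l, hx₁.pd i (c j l * algebraMap A B (aeval x (pderiv l g))) := by
      simp only [hy₁, map_add, map_sum]
      congr 1
      exact hx₁.pd_coord i j
    have h2 : ∀ l, ε₁' (hx₁.pd i (c j l * algebraMap A B (aeval x (pderiv l g)))) = 0 := by
      intro l
      rw [Derivation.leibniz, map_add, smul_eq_mul, smul_eq_mul, map_mul, map_mul]
      have h3 : ε₁' (c j l) = 0 := hε₁ j l
      have h4 : ε₁' (hx₁.pd i (c j l)) = 0 := der_mem (hx₁.pd i) n (hcn j l)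
      rw [h3, h4]
      ring
    rw [h1, map_add, map_sum, Finset.sum_congr rfl fun l _ => h2 l, Finset.sum_const_zero, add_zero,
      Matrix.one_apply]
    split_ifs <;> simp
  have hdet : ε₁' M.det = 1 := by
    have := (RingHom.map_det (ε₁' : B →+* k) M)
    rw [RingHom.mapMatrix_apply] at this
    rw [show M.map (ε₁' : B →+* k) = M.map ε₁' from rfl, hM, Matrix.det_one] at this
    exact this
  let B' := Localization.Away M.det
  have hB' : Algebra.Etale B B' := etale_away M.det
  let ψ : A →ₐ[k] B' := (IsScalarTower.toAlgHom k B B').comp (IsScalarTower.toAlgHom k A B)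
  have hψ : ∀ b : A, ψ b = algebraMap B B' (algebraMap A B b) := fun _ => rfl
  let ε' : B' →ₐ[k] k := IsLocalization.liftAlgHom (M := Submonoid.powers M.det) (f := ε₁') (by
    rintro ⟨_, n, rfl⟩
    simp only [map_pow, hdet, one_pow]
    exact isUnit_one)
  have hε' : ∀ b : B, ε' (algebraMap B B' b) = ε₁' b := fun b => by
    rw [IsLocalization.liftAlgHom_apply, IsLocalization.lift_eq]
    rfl
  refine ⟨B', inferInstance, inferInstance, ψ, fun i => algebraMap B B' (y₁ i), ε', ?_, ?_, ?_, ?_, ?_⟩
  · exact etale_comp (RingHom.etale_algebraMap.mpr hB) (RingHom.etale_algebraMap.mpr hB')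
  · intro b
    rw [hψ, hε']
    exact hε₁A b
  · have hx₂ : IsEtaleCoord k (fun i => algebraMap B B' (algebraMap A B (x i))) :=
      hx₁.comp (IsScalarTower.toAlgHom k B B') (RingHom.etale_algebraMap.mpr hB')
    refine hx₂.of_isUnit_det _ ?_
    have h1 : (Matrix.of fun i j => hx₂.pd i (algebraMap B B' (y₁ j))) = M.map (algebraMap B B') := by
      ext i j
      change hx₂.pd i (algebraMap B B' (y₁ j)) = algebraMap B B' (hx₁.pd i (y₁ j))
      -- both are derivations of `B` with values in `B'`
      let d₁ : Derivation k B B' := (hx₂.pd i).compAlgebraMap B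
      let d₂ : Derivation k B B' := (Algebra.linearMap B B').compDer (hx₁.pd i)
      have h2 : d₁ = d₂ := hx₁.der_ext d₁ d₂ (fun l => by
        change hx₂.pd i (algebraMap B B' (algebraMap A B (x l))) = algebraMap B B' (hx₁.pd i (algebraMap A B (x l)))
        rw [hx₂.pd_coord i l, hx₁.pd_coord i l]
        split_ifs <;> simp)
      exact DFunLike.congr_fun h2 (y₁ j)
    rw [h1]
    have h3 := (RingHom.map_det (algebraMap B B') M)
    rw [RingHom.mapMatrix_apply] at h3
    rw [← h3]
    exact IsLocalization.Away.algebraMap_isUnit M.det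
  · intro i
    exact (hε' _).trans (hεy i)
  · have h1 : aeval (fun i => algebraMap B B' (y₁ i)) g = algebraMap B B' (aeval y₁ g) := by
      rw [← MvPolynomial.aeval_algebraMap_apply]
      rfl
    rw [h1, hg, hψ]

end Groth.Agent.Vancyc.H155.Coord
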