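import Groth.Agent.CohqA.DerComp

/-!
# Right derived functors and exact functors: compatibility with endomorphisms
-/

set_option autoImplicit false
set_option backward.isDefEq.respectTransparency false
set_option backward.defeqAttrib.useBackward true

open CategoryTheory CategoryTheory.Limits

namespace Groth.Agent.Vancyc.H155.DerTheta

open Groth.Agent.CohqA.DerComp

variable {C D C' D' : Type*} [Category* C] [Category* D] [Category* C'] [Category* D']
  [Abelian C] [Abelian D] [Abelian C'] [Abelian D']
  {F : C ⥤ D} [F.Additive] {F' : C' ⥤ D'} [F'.Additive]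
  {a : C ⥤ C'} [a.Additive] [PreservesFiniteLimits a] [PreservesFiniteColimits a]
  [a.PreservesInjectiveObjects]
  {b : D ⥤ D'} [b.Additive] [PreservesFiniteLimits b] [PreservesFiniteColimits b]
  (e : F ⋙ b ≅ a ⋙ F') (θ : F ⟶ F) (θ' : F' ⟶ F')

omit [PreservesFiniteLimits a] [PreservesFiniteColimits a] [a.PreservesInjectiveObjects] in
theorem midIso_theta (h : ∀ M, b.map (θ.app M) ≫ e.hom.app M = e.hom.app M ≫ θ'.app (a.obj M))
    (K : CochainComplex C ℕ) (n : ℕ) :
    b.map (HomologicalComplex.homologyMap ((NatTrans.mapHomologicalComplex θ (ComplexShape.up ℕ)).app K) n) ≫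
      (midIso e K n).hom = (midIso e K n).hom ≫
        HomologicalComplex.homologyMap ((NatTrans.mapHomologicalComplex θ' (ComplexShape.up ℕ)).app
          ((a.mapHomologicalComplex (ComplexShape.up ℕ)).obj K)) n := by
  have h3 := homologyIso_naturality b ((NatTrans.mapHomologicalComplex θ (ComplexShape.up ℕ)).app K) n
  have h4 : HomologicalComplex.homologyMap ((b.mapHomologicalComplex (ComplexShape.up ℕ)).map
      ((NatTrans.mapHomologicalComplex θ (ComplexShape.up ℕ)).app K)) n ≫
      HomologicalComplex.homologyMap
        ((NatIso.mapHomologicalComplex e (ComplexShape.up ℕ)).hom.app K) n =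
      HomologicalComplex.homologyMap
        ((NatIso.mapHomologicalComplex e (ComplexShape.up ℕ)).hom.app K) n ≫
      HomologicalComplex.homologyMap ((NatTrans.mapHomologicalComplex θ' (ComplexShape.up ℕ)).app
          ((a.mapHomologicalComplex (ComplexShape.up ℕ)).obj K)) n := by
    rw [← HomologicalComplex.homologyMap_comp]
    refine Eq.trans ?_ (HomologicalComplex.homologyMap_comp _ _ _)
    refine congrArg (fun t => HomologicalComplex.homologyMap t n) ?_
    ext i
    exact h (K.X i)
  have h5 : b.map (HomologicalComplex.homologyMap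
      ((NatTrans.mapHomologicalComplex θ (ComplexShape.up ℕ)).app K) n) ≫ (homologyIso b _ n).inv =
      (homologyIso b _ n).inv ≫ HomologicalComplex.homologyMap
        ((b.mapHomologicalComplex (ComplexShape.up ℕ)).map
        ((NatTrans.mapHomologicalComplex θ (ComplexShape.up ℕ)).app K)) n := by
    rw [Iso.comp_inv_eq, Category.assoc, h3, Iso.inv_hom_id_assoc]
  have h6 : (midIso e K n).hom =
    (homologyIso b ((F.mapHomologicalComplex (ComplexShape.up ℕ)).obj K) n).inv ≫
      HomologicalComplex.homologyMap
        ((NatIso.mapHomologicalComplex e (ComplexShape.up ℕ)).hom.app K) n := rfl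
  rw [h6, ← Category.assoc, h5, Category.assoc, Category.assoc]
  exact congrArg (fun t => (homologyIso b _ n).inv ≫ t) h4

/-- The comparison `b (Rⁿ F M) ≅ Rⁿ F' (a M)` is compatible with endomorphisms of `F` and `F'`. -/
theorem compIsoObj_theta [HasInjectiveResolutions C] [HasInjectiveResolutions C']
    (h : ∀ M, b.map (θ.app M) ≫ e.hom.app M = e.hom.app M ≫ θ'.app (a.obj M)) {M : C}
    (I : InjectiveResolution M) (n : ℕ) :
    b.map ((NatTrans.rightDerived θ n).app M) ≫ (compIsoObj e I n).hom =
      (compIsoObj e I n).hom ≫ (NatTrans.rightDerived θ' n).app (a.obj M) := by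
  have h1 := InjectiveResolution.rightDerived_app_eq θ I n
  have h2 := InjectiveResolution.rightDerived_app_eq θ' (mapInjRes a I) n
  have h3 := midIso_theta e θ θ' h I.cocomplex n
  have h4 : (compIsoObj e I n).hom = b.map (I.isoRightDerivedObj F n).hom ≫ (midIso e I.cocomplex n).hom ≫
      ((mapInjRes a I).isoRightDerivedObj F' n).inv := rfl
  have h5 : b.map (I.isoRightDerivedObj F n).inv ≫ b.map (I.isoRightDerivedObj F n).hom = 𝟙 _ := by
    rw [← Functor.map_comp, Iso.inv_hom_id, CategoryTheory.Functor.map_id]
  rw [h4, h1, h2]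
  simp only [Functor.map_comp, Category.assoc, Iso.inv_hom_id_assoc]
  rw [reassoc_of% h5]
  refine congrArg (fun t => b.map (I.isoRightDerivedObj F n).hom ≫ t) ?_
  rw [← Category.assoc, ← Category.assoc]
  exact congrArg (fun t => t ≫ _) h3

end Groth.Agent.Vancyc.H155.DerTheta
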