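import Groth.Agent.Vancyc.H155.Jet
import Mathlib.RingTheory.FiniteType

/-!
# Finite determinacy over étale neighbourhoods (algebra)
-/

set_option autoImplicit false
set_option linter.style.haveILetI false

namespace Groth.Agent.Vancyc.H155.Det

open MvPolynomial Groth.Agent.CurvesC.NodeEt

universe u v

variable {k : Type v} [Field k] {m : ℕ}

/-- Chain rule. -/
theorem der_aeval {A : Type u} [CommRing A] [Algebra k A] (d : Derivation k A A) (x : Fin m → A)
    (g : MvPolynomial (Fin m) k) : d (aeval x g) = ∑ j, aeval x (pderiv j g) * d (x j) := by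
  induction g using MvPolynomial.induction_on with
  | C a => simp
  | add p q hp hq =>
    rw [map_add, map_add, hp, hq, ← Finset.sum_add_distrib]
    refine Finset.sum_congr rfl fun j _ => ?_
    rw [map_add, map_add, add_mul]
  | mul_X p i hp =>
    rw [map_mul, aeval_X, d.leibniz, hp, smul_eq_mul, smul_eq_mul, Finset.mul_sum]
    have h1 : ∀ j, aeval x (pderiv j (p * X i)) * d (x j) =
        x i * (aeval x (pderiv j p) * d (x j)) + (if j = i then aeval x p * d (x i) else 0) := by
      intro j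
      rw [pderiv_mul, map_add, map_mul, map_mul, aeval_X, pderiv_X]
      by_cases hij : j = i
      · subst hij
        simp only [Pi.single_eq_same, map_one, if_true]
        ring
      · rw [if_neg hij, Pi.single_eq_of_ne (fun h => hij h.symm), map_zero]
        ring
    rw [Finset.sum_congr rfl fun j _ => h1 j, Finset.sum_add_distrib, Finset.sum_ite_eq' Finset.univ i,
      if_pos (Finset.mem_univ _)]
    ring

theorem pd_aeval {A : Type u} [CommRing A] [Algebra k A] {x : Fin m → A} (hx : IsEtaleCoord k x)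
    (g : MvPolynomial (Fin m) k) (i : Fin m) : hx.pd i (aeval x g) = aeval x (pderiv i g) := by
  rw [der_aeval]
  simp only [hx.pd_coord, mul_ite, mul_one, mul_zero, Finset.sum_ite_eq, Finset.mem_univ, if_true]

theorem aeval_mem_pow {A : Type u} [CommRing A] [Algebra k A] (x : Fin m → A) (I : Ideal A) (hx : ∀ i, x i ∈ I)
    (M : ℕ) (g : MvPolynomial (Fin m) k)
    (hg : g ∈ (Ideal.span (Set.range (X : Fin m → MvPolynomial (Fin m) k))) ^ M) : aeval x g ∈ I ^ M := by
  have h1 : (Ideal.span (Set.range (X : Fin m → MvPolynomial (Fin m) k))) ≤ I.comap (aeval x).toRingHom := by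
    rw [Ideal.span_le]
    rintro _ ⟨i, rfl⟩
    change aeval x (X i) ∈ I
    rw [aeval_X]
    exact hx i
  exact Ideal.le_comap_pow (aeval x).toRingHom M (Ideal.pow_right_mono h1 M hg)

/-- The product ideal as a span. -/
theorem mul_self_le_span {A : Type u} [CommRing A] (d : Fin m → A) :
    Ideal.span (Set.range d) * Ideal.span (Set.range d) ≤
      Ideal.span (Set.range fun p : Fin m × Fin m => d p.1 * d p.2) := by
  rw [Ideal.span_mul_span']
  refine Ideal.span_mono ?_
  rintro _ ⟨_, ⟨l, rfl⟩, _, ⟨r, rfl⟩, rfl⟩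
  exact ⟨(l, r), rfl⟩

theorem exists_coeff {A : Type u} [CommRing A] (I J' : Ideal A) (d : Fin m → A) (hJ' : J' = Ideal.span (Set.range d))
    (N : ℕ) (r : A) (hr : ∀ b ∈ I ^ N, r * b ∈ J') (t : A) (ht : t ∈ I ^ (2 * N + 2)) :
    ∃ a : Fin m → Fin m → A, (∀ l r, a l r ∈ I ^ 2) ∧ r * r * t = ∑ l, ∑ r, a l r * (d l * d r) := by
  have h1 : r * r * t ∈ I ^ 2 * (J' * J') := by
    rw [show 2 * N + 2 = 2 + (N + N) by omega, pow_add, pow_add] at ht
    refine Submodule.mul_induction_on ht ?_ ?_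
    · intro a ha b hb
      have h2 : r * r * b ∈ J' * J' := by
        refine Submodule.mul_induction_on hb ?_ ?_
        · intro c hc e he
          have : r * r * (c * e) = (r * c) * (r * e) := by ring
          rw [this]
          exact Ideal.mul_mem_mul (hr c hc) (hr e he)
        · intro c e hc he
          rw [mul_add]
          exact add_mem hc he
      have : r * r * (a * b) = a * (r * r * b) := by ring
      rw [this]
      exact Ideal.mul_mem_mul ha h2
    · intro a b ha hb
      rw [mul_add]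
      exact add_mem ha hb
  have h2 : r * r * t ∈ I ^ 2 • Ideal.span (Set.range fun p : Fin m × Fin m => d p.1 * d p.2) := by
    refine Ideal.mul_mono_right ?_ h1
    rw [hJ']
    exact mul_self_le_span d
  obtain ⟨a, ha, hsum⟩ := (Submodule.mem_ideal_smul_span_iff_exists_sum (I ^ 2) _ _).mp h2
  refine ⟨fun l r => a (l, r), fun l r => ha _, ?_⟩
  rw [← hsum, Finsupp.sum_fintype _ _ (fun i => by simp), Fintype.sum_prod_type]
  rfl

/-- **Finite determinacy** (Tougeron) over étale neighbourhoods. -/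
theorem exists_common {A : Type u} [CommRing A] [Algebra k A] {x : Fin m → A} (hx : IsEtaleCoord k x)
    (ε : A →ₐ[k] k) (hεx : ∀ i, ε (x i) = 0) (h : A) (N : ℕ) (s : A) (hs : ε s = 1)
    (hJ : ∀ b ∈ (RingHom.ker ε) ^ N, s * b ∈ Ideal.span (Set.range fun i => hx.pd i h)) :
    ∃ (M : ℕ) (φ : MvPolynomial (Fin m) k), 1 ≤ M ∧ ∀ g : MvPolynomial (Fin m) k,
      g - φ ∈ (Ideal.span (Set.range (X : Fin m → MvPolynomial (Fin m) k))) ^ M →
      ∃ (B : Type u) (_ : CommRing B) (_ : Algebra k B) (ψ : A →ₐ[k] B) (y : Fin m → B) (ε' : B →ₐ[k] k),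
        ψ.toRingHom.Etale ∧ (∀ b : A, ε' (ψ b) = ε b) ∧ IsEtaleCoord k y ∧ (∀ i, ε' (y i) = 0) ∧
        aeval y g = ψ h := by
  haveI : Algebra.Smooth k A := hx.smooth
  haveI : Algebra.FiniteType k A := inferInstance
  haveI : IsNoetherianRing A := Algebra.FiniteType.isNoetherianRing k A
  obtain ⟨φ, hφ⟩ := Jet.exists_jet hx ε hεx (2 * N + 2) h
  refine ⟨2 * N + 2, φ, by omega, fun g hg => ?_⟩
  have h1 : h - aeval x g ∈ (RingHom.ker ε) ^ (2 * N + 2) := by
    have h2 := aeval_mem_pow x (RingHom.ker ε) (fun i => hεx i) _ _ hg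
    rw [map_sub] at h2
    have h3 : h - aeval x g = (h - aeval x φ) - (aeval x g - aeval x φ) := by ring
    rw [h3]
    exact sub_mem hφ h2
  set J' : Ideal A := Ideal.span (Set.range fun l => aeval x (pderiv l g)) with hJ'
  have h2 : Ideal.span (Set.range fun i => hx.pd i h) ≤ J' ⊔ (RingHom.ker ε) ^ (N + 1) := by
    rw [Ideal.span_le]
    rintro _ ⟨i, rfl⟩
    have h3 : hx.pd i h = aeval x (pderiv i g) + hx.pd i (h - aeval x g) := by
      rw [map_sub, pd_aeval]
      ring
    change hx.pd i h ∈ _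
    rw [h3]
    refine add_mem (Ideal.mem_sup_left (Ideal.subset_span ⟨i, rfl⟩)) (Ideal.mem_sup_right ?_)
    exact Ideal.pow_le_pow_right (by omega) (Jet.der_mem_pow (hx.pd i) (RingHom.ker ε) (2 * N + 1) h1)
  obtain ⟨r, hr1, hr⟩ := Jet.exists_mul_mem ε N _ J' s hs hJ h2
  obtain ⟨a, ha, hsum⟩ := exists_coeff (RingHom.ker ε) J' (fun l => aeval x (pderiv l g)) hJ' N r hr _ h1
  -- localize at `r`
  let A' := Localization.Away r
  let θ : A →ₐ[k] A' := IsScalarTower.toAlgHom k A A'
  have hθ : θ.toRingHom.Etale := RingHom.etale_algebraMap.mpr (Coord.etale_away r)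
  let ε₁ : A' →ₐ[k] k := IsLocalization.liftAlgHom (M := Submonoid.powers r) (f := ε) (by
    rintro ⟨_, n, rfl⟩
    simp only [map_pow, hr1, one_pow]
    exact isUnit_one)
  have hε₁ : ∀ b : A, ε₁ (θ b) = ε b := fun b => by
    change ε₁ (algebraMap A A' b) = ε b
    rw [IsLocalization.liftAlgHom_apply, IsLocalization.lift_eq]
    rfl
  obtain ⟨w, hw⟩ : ∃ w : A', θ r * w = 1 := (IsLocalization.Away.algebraMap_isUnit r).exists_right_inv
  have hx' : IsEtaleCoord k (fun i => θ (x i)) := hx.comp θ hθ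
  have hker : ∀ b ∈ (RingHom.ker ε) ^ 2, θ b ∈ (RingHom.ker ε₁) ^ 2 := by
    have h3 : (RingHom.ker ε) ^ 2 ≤ ((RingHom.ker ε₁) ^ 2).comap θ.toRingHom := by
      refine le_trans (Ideal.pow_right_mono ?_ 2) (Ideal.le_comap_pow θ.toRingHom 2)
      intro b hb
      exact (hε₁ b).trans hb
    exact fun b hb => h3 hb
  obtain ⟨B, _, _, ψ, y, ε', hψ, hε', hy, hy0, hyg⟩ := Coord.exists_coord A' (fun i => θ (x i)) hx' ε₁
    (fun i => (hε₁ _).trans (hεx i)) g (fun l r => w ^ 2 * θ (a l r))
    (fun l r => Ideal.mul_mem_left _ _ (hker _ (ha l r)))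
  refine ⟨B, inferInstance, inferInstance, ψ.comp θ, y, ε', etale_comp hθ hψ, fun b => ?_, hy, hy0, ?_⟩
  · exact (hε' _).trans (hε₁ b)
  · rw [hyg, AlgHom.comp_apply]
    congr 1
    have h3 : ∀ p : MvPolynomial (Fin m) k, aeval (fun i => θ (x i)) p = θ (aeval x p) := fun p =>
      (MvPolynomial.comp_aeval_apply x θ p).symm
    have h4 : ∑ l, ∑ r, w ^ 2 * θ (a l r) * aeval (fun i => θ (x i)) (pderiv l g) *
        aeval (fun i => θ (x i)) (pderiv r g) = w ^ 2 * θ (∑ l, ∑ r, a l r *
          (aeval x (pderiv l g) * aeval x (pderiv r g))) := by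
      rw [map_sum, Finset.mul_sum]
      refine Finset.sum_congr rfl fun l _ => ?_
      rw [map_sum, Finset.mul_sum]
      refine Finset.sum_congr rfl fun r _ => ?_
      rw [h3, h3, map_mul, map_mul]
      ring
    rw [h4, ← hsum, h3, map_mul, map_mul, map_sub]
    linear_combination (θ h - θ (aeval x g)) * (θ r * w + 1) * hw

end Groth.Agent.Vancyc.H155.Det
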