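import Groth.Agent.Etrest.FLCLocal
import Groth.Agent.EtpbcB.GeomPointIndep
import Groth.Prelude.Def_VanCyc

/-!
# The stalks of nearby cycles only depend on the étale germ

`St h M n x` is the stalk at the geometric point `x` of `R^n h_* M`. It is invariant under étale localization
(`nonempty_St_etale`), only depends on the image of `x` (`nonempty_St_point`), and computes the stalks of
`VanCyc.psi` of constant sheaves (`nonempty_psi_iso`).
-/

set_option autoImplicit false

universe u

namespace Groth.Agent.Vancyc.H155.Psi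

open CategoryTheory CategoryTheory.Limits AlgebraicGeometry

/-- The stalk at the geometric point `x` of `R^n h_* M`. -/
noncomputable def St {T Y : Scheme.{u}} (h : T ⟶ Y) (M : Type) [AddCommGroup M] (n : ℕ) {κ : Type u} [Field κ]
    [IsSepClosed κ] (x : Spec (CommRingCat.of κ) ⟶ Y) : AddCommGrpCat.{u + 1} :=
  (EtCoh.stalk x).obj ((EtCoh.Rpush h n).obj (EtCoh.const T M))

/-- Étale localization. -/
theorem nonempty_St_etale {T Y T' Y' : Scheme.{u}} {h : T ⟶ Y} {h' : T' ⟶ Y'} {t : T' ⟶ T} {u : Y' ⟶ Y}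
    [Etale u] (sq : IsPullback t h' h u) (M : Type) [AddCommGroup M] (n : ℕ) {κ : Type u} [Field κ]
    [IsSepClosed κ] (x : Spec (CommRingCat.of κ) ⟶ Y') : Nonempty (St h M n (x ≫ u) ≅ St h' M n x) := by
  have ht : Etale t := MorphismProperty.of_isPullback sq.flip inferInstance
  obtain ⟨e⟩ := Etrest.FLCLocal.pull_Rpush_iso u h t h' sq (EtCoh.const T M) n
  exact ⟨(Etbase.StalkPull.stalkPullIso u x).app _ ≪≫ (EtCoh.stalk x).mapIso e ≪≫
    (EtCoh.stalk x).mapIso ((EtCoh.Rpush h' n).mapIso (EtCore.pullConst t M))⟩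

/-- Independence of the geometric point. -/
theorem nonempty_St_point {T Y : Scheme.{u}} (h : T ⟶ Y) (M : Type) [AddCommGroup M] (n : ℕ) {κ κ' : Type u}
    [Field κ] [IsSepClosed κ] [Field κ'] [IsSepClosed κ'] (x : Spec (CommRingCat.of κ) ⟶ Y)
    (x' : Spec (CommRingCat.of κ') ⟶ Y) (hx : x default = x' default) : Nonempty (St h M n x ≅ St h M n x') := by
  obtain ⟨e⟩ := EtpbcB.GeomPointIndep.nonempty_stalkIso x x' hx
  exact ⟨e.app _⟩

/-- Invariance under isomorphisms. -/
theorem nonempty_St_iso {T Y T' Y' : Scheme.{u}} {h : T ⟶ Y} {h' : T' ⟶ Y'} (t : T' ⟶ T) (u : Y' ⟶ Y)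
    [IsIso t] [IsIso u] (w : t ≫ h = h' ≫ u) (M : Type) [AddCommGroup M] (n : ℕ) {κ : Type u} [Field κ]
    [IsSepClosed κ] (x : Spec (CommRingCat.of κ) ⟶ Y') : Nonempty (St h M n (x ≫ u) ≅ St h' M n x) :=
  nonempty_St_etale (IsPullback.of_horiz_isIso ⟨w⟩) M n x

/-- The stalks of nearby cycles of a constant sheaf. -/
theorem nonempty_psi_iso (R : Type u) [CommRing R] [IsLocalRing R] (Ω : Type u) [Field Ω] [Algebra R Ω]
    {Y : Scheme.{u}} (f : Y ⟶ Spec (CommRingCat.of R)) (M : Type) [AddCommGroup M] (n : ℕ) {κ : Type u} [Field κ]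
    [IsSepClosed κ] (ξ : Spec (CommRingCat.of κ) ⟶ VanCyc.spFib R f) :
    Nonempty ((EtCoh.stalk ξ).obj (VanCyc.psi R Ω f n ((EtCoh.pull (VanCyc.jA R f Ω)).obj (EtCoh.const Y M))) ≅
      St (VanCyc.jA R f Ω) M n (ξ ≫ VanCyc.icl R f)) :=
  ⟨((Etbase.StalkPull.stalkPullIso (VanCyc.icl R f) ξ).app _).symm ≪≫
    (EtCoh.stalk (ξ ≫ VanCyc.icl R f)).mapIso ((EtCoh.Rpush (VanCyc.jA R f Ω) n).mapIso
      (EtCore.pullConst (VanCyc.jA R f Ω) M))⟩

section Fam

variable {Y B W : Scheme.{u}} (f : Y ⟶ B) {E : Scheme.{u}} (η : E ⟶ B)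

/-- The base change square of an étale morphism to the geometric generic fibres. -/
theorem isPullback_fam (u : W ⟶ Y) : IsPullback
    (pullback.lift (pullback.fst (u ≫ f) η ≫ u) (pullback.snd (u ≫ f) η)
      (by rw [Category.assoc, pullback.condition]) : pullback (u ≫ f) η ⟶ pullback f η)
    (pullback.fst (u ≫ f) η) (pullback.fst f η) u := by
  refine IsPullback.of_right (h₁₂ := pullback.snd f η) (v₁₃ := η) (h₂₂ := f) ?_ (pullback.lift_fst _ _ _)
    (IsPullback.of_hasPullback f η).flip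
  rw [pullback.lift_snd]
  exact (IsPullback.of_hasPullback (u ≫ f) η).flip

/-- Étale localization for a family. -/
theorem nonempty_St_fam (u : W ⟶ Y) [Etale u] (g : W ⟶ B) (hg : u ≫ f = g) (M : Type) [AddCommGroup M] (n : ℕ)
    {κ : Type u} [Field κ] [IsSepClosed κ] (x : Spec (CommRingCat.of κ) ⟶ W) :
    Nonempty (St (pullback.fst f η) M n (x ≫ u) ≅ St (pullback.fst g η) M n x) := by
  subst hg
  exact nonempty_St_etale (isPullback_fam f η u) M n x

end Fam

/-- Two points of a fibre product over the image of the same field-valued point `a`, `a ≫ G` a closed immersion,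
and over the same point of the base are equal. -/
theorem eq_of_points {A L D : Scheme.{u}} (G : A ⟶ L) (b : D ⟶ L) {k κ : Type u} [Field k] [Field κ]
    (a : Spec (CommRingCat.of k) ⟶ A) [IsClosedImmersion (a ≫ G)] (s : Spec (CommRingCat.of κ) ⟶ D)
    (y y' : ↥(pullback G b)) (hy : pullback.fst G b y = a default) (hy' : pullback.fst G b y' = a default)
    (hs : pullback.snd G b y = s default) (hs' : pullback.snd G b y' = s default) : y = y' := by
  have h : ∀ z : ↥(pullback G b), pullback.fst G b z = a default → pullback.snd G b z = s default →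
      z ∈ Set.range (pullback.map (a ≫ G) (s ≫ b) G b a s (𝟙 L) (by simp) (by simp)) := by
    intro z h1 h2
    rw [Scheme.Pullback.range_map]
    exact ⟨⟨_, h1.symm⟩, ⟨_, h2.symm⟩⟩
  obtain ⟨z, rfl⟩ := h y hy hs
  obtain ⟨z', rfl⟩ := h y' hy' hs'
  congr 1
  have hinj : Function.Injective (pullback.snd (a ≫ G) (s ≫ b)) :=
    (pullback.snd (a ≫ G) (s ≫ b)).isClosedEmbedding.injective
  exact hinj (Subsingleton.elim _ _)

end Groth.Agent.Vancyc.H155.Psi
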