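import Groth.Agent.Vancyc.H155.ThetaEt
import Groth.Agent.Vancyc.H155.DerTheta
import Groth.Agent.Vancyc.H155.Psi
import Groth.Agent.Etcore.LocEt

/-!
# Étale transfer of the Galois action on the stalks of nearby cycles
-/

set_option autoImplicit false

universe u

open CategoryTheory CategoryTheory.Limits AlgebraicGeometry Opposite

namespace Groth.Agent.Vancyc.H155.EtTransfer

open Groth.Agent.Vancyc.H693.UnitTheta ThetaEt DerTheta

section

variable {X Z U Z' : Scheme.{u}} {j : Z ⟶ X} {p : U ⟶ X} {j' : Z' ⟶ U} {p' : Z' ⟶ Z}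
  {s : Z ⟶ Z} {s' : Z' ⟶ Z'}

/-- `p^* j_* j^* ≅ j'_* j'^* p^*`. -/
noncomputable def alIso [Etale p] (sq : IsPullback p' j' j p) :
    (EtCoh.pull j ⋙ EtCoh.push j) ⋙ EtCoh.pull p ≅ EtCoh.pull p ⋙ (EtCoh.pull j' ⋙ EtCoh.push j') :=
  NatIso.ofComponents (fun F => @asIso _ _ _ _ (al sq.w F) (isIso_al sq F)) (fun φ => al_nat sq.w φ)

/-- Étale base change of `R^n (j_* j^*)` with the action of automorphisms. -/
theorem exists_iso [Etale p] (sq : IsPullback p' j' j p) (hs : s ≫ j = j) (hs' : s' ≫ j' = j')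
    (hss : s' ≫ p' = p' ≫ s)
    (θ : EtCoh.pull j ⋙ EtCoh.push j ⟶ EtCoh.pull j ⋙ EtCoh.push j) (hθ : ∀ F, θ.app F = endo s j j hs F)
    (θ' : EtCoh.pull j' ⋙ EtCoh.push j' ⟶ EtCoh.pull j' ⋙ EtCoh.push j')
    (hθ' : ∀ F, θ'.app F = endo s' j' j' hs' F) (F : EtCoh.Ab X) (n : ℕ) :
    ∃ e : (EtCoh.pull p).obj (((EtCoh.pull j ⋙ EtCoh.push j).rightDerived n).obj F) ≅
        ((EtCoh.pull j' ⋙ EtCoh.push j').rightDerived n).obj ((EtCoh.pull p).obj F),
      (EtCoh.pull p).map ((NatTrans.rightDerived θ n).app F) ≫ e.hom =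
        e.hom ≫ (NatTrans.rightDerived θ' n).app ((EtCoh.pull p).obj F) := by
  have := Groth.Agent.S0101.result p
  refine ⟨CohqA.DerComp.compIsoObj (alIso sq) (injectiveResolution F) n,
    compIsoObj_theta (alIso sq) θ θ' (fun M => ?_) (injectiveResolution F) n⟩
  rw [hθ, hθ']
  exact al_endo sq.w hs hs' hss M

end

section VanCyc

open VanCyc

variable {R : Type u} [CommRing R] [IsLocalRing R] {K : Type u} [Field K] [Algebra R K] {Ω : Type u} [Field Ω]
  [Algebra K Ω] [Algebra R Ω] [IsScalarTower R K Ω] {X U : Scheme.{u}} (f : X ⟶ Spec (CommRingCat.of R))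
  (p : U ⟶ X)

/-- The map of geometric generic fibres. -/
noncomputable def fibMap : fib R (p ≫ f) Ω ⟶ fib R f Ω :=
  pullback.lift (pullback.fst (p ≫ f) (toS R Ω) ≫ p) (pullback.snd (p ≫ f) (toS R Ω))
    (by rw [Category.assoc, pullback.condition])

omit [IsLocalRing R] in
theorem isPullback_fibMap : IsPullback (fibMap (Ω := Ω) f p) (jA R (p ≫ f) Ω) (jA R f Ω) p :=
  Psi.isPullback_fam f (toS R Ω) p

omit [IsLocalRing R] in
theorem galGeom_fibMap (σ : Ω ≃ₐ[K] Ω) :
    galGeom (p ≫ f) σ ≫ fibMap (Ω := Ω) f p = fibMap (Ω := Ω) f p ≫ galGeom f σ := by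
  apply pullback.hom_ext
  · simp only [galGeom, fibMap, pullback.map, Category.assoc, pullback.lift_fst,
      pullback.lift_fst_assoc, Category.comp_id]
  · simp only [galGeom, fibMap, pullback.map, Category.assoc, pullback.lift_snd,
      pullback.lift_snd_assoc]

/-- Étale base change of the derived functors of `Theta` with the Galois action. -/
theorem exists_iso_theta [Etale p] (σ : Ω ≃ₐ[K] Ω) (F : EtCoh.Ab X) (n : ℕ) :
    ∃ e : (EtCoh.pull p).obj (((Theta R Ω f).rightDerived n).obj F) ≅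
        ((Theta R Ω (p ≫ f)).rightDerived n).obj ((EtCoh.pull p).obj F),
      (EtCoh.pull p).map ((NatTrans.rightDerived (thetaEnd f σ) n).app F) ≫ e.hom =
        e.hom ≫ (NatTrans.rightDerived (thetaEnd (p ≫ f) σ) n).app ((EtCoh.pull p).obj F) :=
  exists_iso (isPullback_fibMap f p) (galGeom_jA f σ) (galGeom_jA (p ≫ f) σ) (galGeom_fibMap f p σ)
    (thetaEnd f σ) (thetaEnd_app f σ) (thetaEnd (p ≫ f) σ) (thetaEnd_app (p ≫ f) σ) F n

/-- **Étale transfer**: the stalk at `z ≫ p` of `R^n Theta_f F` is the stalk at `z` of `R^n Theta_(p ≫ f) (p^* F)`,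
compatibly with the Galois action. -/
theorem exists_iso_stalk [Etale p] (σ : Ω ≃ₐ[K] Ω) (F : EtCoh.Ab X) (n : ℕ) {κ : Type u} [Field κ] [IsSepClosed κ]
    (z : Spec (CommRingCat.of κ) ⟶ U) :
    ∃ e : (EtCoh.stalk (z ≫ p)).obj (((Theta R Ω f).rightDerived n).obj F) ≅
        (EtCoh.stalk z).obj (((Theta R Ω (p ≫ f)).rightDerived n).obj ((EtCoh.pull p).obj F)),
      (EtCoh.stalk (z ≫ p)).map ((NatTrans.rightDerived (thetaEnd f σ) n).app F) ≫ e.hom =
        e.hom ≫ (EtCoh.stalk z).map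
          ((NatTrans.rightDerived (thetaEnd (p ≫ f) σ) n).app ((EtCoh.pull p).obj F)) := by
  obtain ⟨e, he⟩ := exists_iso_theta f p σ F n
  refine ⟨(Etbase.StalkPull.stalkPullIso p z).app _ ≪≫ (EtCoh.stalk z).mapIso e, ?_⟩
  have h1 := (Etbase.StalkPull.stalkPullIso p z).hom.naturality
    ((NatTrans.rightDerived (thetaEnd f σ) n).app F)
  have h2 := congrArg (EtCoh.stalk z).map he
  rw [Functor.map_comp, Functor.map_comp] at h2
  simp only [Iso.trans_hom, Iso.app_hom, Functor.mapIso_hom, Category.assoc]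
  rw [reassoc_of% h1, ← h2]

/-- The Galois action on the stalk of `R^n Theta_f F` at `z ≫ p` is trivial iff that on the stalk of
`R^n Theta_(p ≫ f) (p^* F)` at `z` is. -/
theorem stalk_map_eq_id_iff [Etale p] (σ : Ω ≃ₐ[K] Ω) (F : EtCoh.Ab X) (n : ℕ) {κ : Type u} [Field κ]
    [IsSepClosed κ] (z : Spec (CommRingCat.of κ) ⟶ U) :
    (EtCoh.stalk (z ≫ p)).map ((NatTrans.rightDerived (thetaEnd f σ) n).app F) = 𝟙 _ ↔
      (EtCoh.stalk z).map
        ((NatTrans.rightDerived (thetaEnd (p ≫ f) σ) n).app ((EtCoh.pull p).obj F)) = 𝟙 _ := by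
  obtain ⟨e, he⟩ := exists_iso_stalk f p σ F n z
  constructor
  · intro h
    rw [h, Category.id_comp] at he
    rw [← cancel_epi e.hom, ← he, Category.comp_id]
  · intro h
    rw [h, Category.comp_id] at he
    rw [← cancel_mono e.hom, he, Category.id_comp]

end VanCyc

end Groth.Agent.Vancyc.H155.EtTransfer
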