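import Groth.Agent.Vancyc.H155.GermPoly
import Groth.Agent.Vancyc.H261.GenPtStd

/-!
# The germ of a polynomial at a critical point of the generic type
-/

set_option autoImplicit false
set_option linter.style.haveILetI false

namespace Groth.Agent.Vancyc.H155.GenGerm

open MvPolynomial Groth.Agent.CurvesC.NodeEt Groth.Agent.Vancyc.H261

universe u

/-- A critical point `a` of `g` of the generic type: `(𝔸^s, a, g)` and `(𝔸^s, 0, c + l · std)` have a common étale
neighbourhood over `𝔸^1`. -/
theorem exists_common {k : Type u} [Field k] {s : ℕ} (g : MvPolynomial (Fin s) k) (a : Fin s → k)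
    (hg : GenPtNF.IsGen g a) :
    ∃ (c l : k) (B : Type u) (_ : CommRing B) (_ : Algebra k B) (ε : B →ₐ[k] k) (y z : Fin s → B),
      l ≠ 0 ∧ IsEtaleCoord k y ∧ IsEtaleCoord k z ∧ (∀ i, ε (y i) = 0) ∧ (∀ i, ε (z i) = a i) ∧
      aeval y (C c + C l * GenPtNF.std k s) = aeval z g := by
  obtain ⟨φ, c, l, hl, hφ, hdet, hM⟩ := hg (2 * 2 + 2)
  obtain ⟨B, _, _, ε, y, z, hy, hz, hy0, hz0, h⟩ := GermPoly.exists_common_subst
    (C c + C l * GenPtNF.std k s) 2 1 (map_one _) (by
      intro b hb
      rw [one_mul]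
      have h1 : b ∈ Ideal.span (Set.range fun i => pderiv i (GenPtNF.std k s)) := GenPtStd.sq_le_jacobian s hb
      refine Submodule.span_induction ?_ ?_ ?_ ?_ h1
      · rintro _ ⟨i, rfl⟩
        have h2 : pderiv i (GenPtNF.std k s) = C l⁻¹ * pderiv i (C c + C l * GenPtNF.std k s) := by
          rw [map_add, pderiv_C, zero_add, pderiv_C_mul, ← mul_assoc, ← C_mul,
            inv_mul_cancel₀ hl, C_1, one_mul]
        change pderiv i (GenPtNF.std k s) ∈ _
        rw [h2]
        exact Ideal.mul_mem_left _ _ (Ideal.subset_span ⟨i, rfl⟩)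
      · exact Ideal.zero_mem _
      · intro x y _ _ hx hy
        exact add_mem hx hy
      · intro r x _ hx
        exact Ideal.mul_mem_left _ _ hx) g φ a hφ hdet (by
      rw [← sub_sub]
      exact hM)
  exact ⟨c, l, B, inferInstance, inferInstance, ε, y, z, hl, hy, hz, hy0, hz0, h⟩

end Groth.Agent.Vancyc.H155.GenGerm
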