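import Groth.Agent.Vancyc.H155.Mu
import Mathlib.RingTheory.MvPolynomial.Ideal

/-!
# Finite determinacy: explicit bound, and germs of polynomials up to polynomial étale substitutions
-/

set_option autoImplicit false
set_option linter.style.haveILetI false

namespace Groth.Agent.Vancyc.H155.GermPoly

open MvPolynomial Groth.Agent.CurvesC.NodeEt

universe u v

variable {k : Type v} [Field k] {m : ℕ}

/-- **Finite determinacy** with the explicit bound `2 N + 2`. -/
theorem exists_common {A : Type u} [CommRing A] [Algebra k A] {x : Fin m → A} (hx : IsEtaleCoord k x)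
    (ε : A →ₐ[k] k) (hεx : ∀ i, ε (x i) = 0) (h : A) (N : ℕ) (s : A) (hs : ε s = 1)
    (hJ : ∀ b ∈ (RingHom.ker ε) ^ N, s * b ∈ Ideal.span (Set.range fun i => hx.pd i h))
    (g : MvPolynomial (Fin m) k) (hg : h - aeval x g ∈ (RingHom.ker ε) ^ (2 * N + 2)) :
    ∃ (B : Type u) (_ : CommRing B) (_ : Algebra k B) (ψ : A →ₐ[k] B) (y : Fin m → B) (ε' : B →ₐ[k] k),
      ψ.toRingHom.Etale ∧ (∀ b : A, ε' (ψ b) = ε b) ∧ IsEtaleCoord k y ∧ (∀ i, ε' (y i) = 0) ∧
      aeval y g = ψ h := by
  haveI : Algebra.Smooth k A := hx.smooth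
  haveI : Algebra.FiniteType k A := inferInstance
  haveI : IsNoetherianRing A := Algebra.FiniteType.isNoetherianRing k A
  have h1 := hg
  set J' : Ideal A := Ideal.span (Set.range fun l => aeval x (pderiv l g)) with hJ'
  have h2 : Ideal.span (Set.range fun i => hx.pd i h) ≤ J' ⊔ (RingHom.ker ε) ^ (N + 1) := by
    rw [Ideal.span_le]
    rintro _ ⟨i, rfl⟩
    have h3 : hx.pd i h = aeval x (pderiv i g) + hx.pd i (h - aeval x g) := by
      rw [map_sub, Det.pd_aeval]
      ring
    change hx.pd i h ∈ _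
    rw [h3]
    refine add_mem (Ideal.mem_sup_left (Ideal.subset_span ⟨i, rfl⟩)) (Ideal.mem_sup_right ?_)
    exact Ideal.pow_le_pow_right (by omega) (Jet.der_mem_pow (hx.pd i) (RingHom.ker ε) (2 * N + 1) h1)
  obtain ⟨r, hr1, hr⟩ := Jet.exists_mul_mem ε N _ J' s hs hJ h2
  obtain ⟨a, ha, hsum⟩ := Det.exists_coeff (RingHom.ker ε) J' (fun l => aeval x (pderiv l g)) hJ' N r hr _ h1
  -- localize at `r`
  let A' := Localization.Away r
  let θ : A →ₐ[k] A' := IsScalarTower.toAlgHom k A A'
  have hθ : θ.toRingHom.Etale := RingHom.etale_algebraMap.mpr (Coord.etale_away r)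
  let ε₁ : A' →ₐ[k] k := IsLocalization.liftAlgHom (M := Submonoid.powers r) (f := ε) (by
    rintro ⟨_, n, rfl⟩
    simp only [map_pow, hr1, one_pow]
    exact isUnit_one)
  have hε₁ : ∀ b : A, ε₁ (θ b) = ε b := fun b => by
    change ε₁ (algebraMap A A' b) = ε b
    rw [IsLocalization.liftAlgHom_apply, IsLocalization.lift_eq]
    rfl
  obtain ⟨w, hw⟩ : ∃ w : A', θ r * w = 1 := (IsLocalization.Away.algebraMap_isUnit r).exists_right_inv
  have hx' : IsEtaleCoord k (fun i => θ (x i)) := hx.comp θ hθ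
  have hker : ∀ b ∈ (RingHom.ker ε) ^ 2, θ b ∈ (RingHom.ker ε₁) ^ 2 := by
    have h3 : (RingHom.ker ε) ^ 2 ≤ ((RingHom.ker ε₁) ^ 2).comap θ.toRingHom := by
      refine le_trans (Ideal.pow_right_mono ?_ 2) (Ideal.le_comap_pow θ.toRingHom 2)
      intro b hb
      exact (hε₁ b).trans hb
    exact fun b hb => h3 hb
  obtain ⟨B, _, _, ψ, y, ε', hψ, hε', hy, hy0, hyg⟩ := Coord.exists_coord A' (fun i => θ (x i)) hx' ε₁
    (fun i => (hε₁ _).trans (hεx i)) g (fun l r => w ^ 2 * θ (a l r))
    (fun l r => Ideal.mul_mem_left _ _ (hker _ (ha l r)))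
  refine ⟨B, inferInstance, inferInstance, ψ.comp θ, y, ε', etale_comp hθ hψ, fun b => ?_, hy, hy0, ?_⟩
  · exact (hε' _).trans (hε₁ b)
  · rw [hyg, AlgHom.comp_apply]
    congr 1
    have h3 : ∀ p : MvPolynomial (Fin m) k, aeval (fun i => θ (x i)) p = θ (aeval x p) := fun p =>
      (MvPolynomial.comp_aeval_apply x θ p).symm
    have h4 : ∑ l, ∑ r, w ^ 2 * θ (a l r) * aeval (fun i => θ (x i)) (pderiv l g) *
        aeval (fun i => θ (x i)) (pderiv r g) = w ^ 2 * θ (∑ l, ∑ r, a l r *
          (aeval x (pderiv l g) * aeval x (pderiv r g))) := by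
      rw [map_sum, Finset.mul_sum]
      refine Finset.sum_congr rfl fun l _ => ?_
      rw [map_sum, Finset.mul_sum]
      refine Finset.sum_congr rfl fun r _ => ?_
      rw [h3, h3, map_mul, map_mul]
      ring
    rw [h4, ← hsum, h3, map_mul, map_mul, map_sub]
    linear_combination (θ h - θ (aeval x g)) * (θ r * w + 1) * hw

/-- A polynomial map whose Jacobian determinant is invertible at a point gives étale coordinates near it. -/
theorem exists_etale_subst {B : Type u} [CommRing B] [Algebra k B] {y : Fin m → B} (hy : IsEtaleCoord k y)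
    (ε : B →ₐ[k] k) (hεy : ∀ i, ε (y i) = 0) (φ : Fin m → MvPolynomial (Fin m) k) (a : Fin m → k)
    (hφ0 : ∀ i, constantCoeff (φ i) = a i)
    (hdet : (Matrix.of fun i j => constantCoeff (pderiv j (φ i))).det ≠ 0) :
    ∃ (B' : Type u) (_ : CommRing B') (_ : Algebra k B') (ψ : B →ₐ[k] B') (ε' : B' →ₐ[k] k),
      ψ.toRingHom.Etale ∧ (∀ b : B, ε' (ψ b) = ε b) ∧ IsEtaleCoord k (fun i => ψ (aeval y (φ i))) ∧
      ∀ i, ε' (ψ (aeval y (φ i))) = a i := by
  have hev : ∀ p : MvPolynomial (Fin m) k, ε (aeval y p) = constantCoeff p := fun p => by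
    rw [Mu.ε_aeval ε hεy p]
    change aeval (fun _ => (0 : k)) p = _
    rw [show (fun _ : Fin m => (0 : k)) = 0 from rfl, MvPolynomial.aeval_zero]
    rfl
  let M : Matrix (Fin m) (Fin m) B := Matrix.of fun i j => hy.pd i (aeval y (φ j))
  have hM : ε M.det ≠ 0 := by
    have h1 := (RingHom.map_det (ε : B →+* k) M)
    have h2 : (ε : B →+* k).mapMatrix M = (Matrix.of fun i j => constantCoeff (pderiv j (φ i))).transpose := by
      ext i j
      change ε (hy.pd i (aeval y (φ j))) = constantCoeff (pderiv i (φ j))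
      rw [Det.pd_aeval, hev]
    rw [h2, Matrix.det_transpose] at h1
    intro h0
    exact hdet (h1.symm.trans h0)
  let B' := Localization.Away M.det
  let θ : B →ₐ[k] B' := IsScalarTower.toAlgHom k B B'
  have hθ : θ.toRingHom.Etale := RingHom.etale_algebraMap.mpr (Coord.etale_away M.det)
  let ε' : B' →ₐ[k] k := IsLocalization.liftAlgHom (M := Submonoid.powers M.det) (f := ε) (by
    rintro ⟨_, n, rfl⟩
    simp only [map_pow]
    exact (IsUnit.mk0 _ hM).pow n)
  have hε' : ∀ b : B, ε' (θ b) = ε b := fun b => by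
    change ε' (algebraMap B B' b) = ε b
    rw [IsLocalization.liftAlgHom_apply, IsLocalization.lift_eq]
    rfl
  refine ⟨B', inferInstance, inferInstance, θ, ε', hθ, hε', ?_, fun i => ?_⟩
  · have hy' : IsEtaleCoord k (fun i => θ (y i)) := hy.comp θ hθ
    refine hy'.of_isUnit_det _ ?_
    have h1 : (Matrix.of fun i j => hy'.pd i (θ (aeval y (φ j)))) = M.map (algebraMap B B') := by
      ext i j
      change hy'.pd i (θ (aeval y (φ j))) = algebraMap B B' (hy.pd i (aeval y (φ j)))
      exact Isol.pd_comp hy θ hy' i _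
    rw [h1]
    have h3 := (RingHom.map_det (algebraMap B B') M)
    rw [RingHom.mapMatrix_apply] at h3
    rw [← h3]
    exact IsLocalization.Away.algebraMap_isUnit M.det
  · rw [hε', hev, hφ0]

/-- **Germs of polynomials**: if `g ∘ φ = q` modulo `(X) ^ (2 N + 2)`, where `φ(0) = a`, `φ` is étale at `0` and
`(X) ^ N ⊆ (∂_i q)` near `0`, then `(𝔸^m, a, g)` and `(𝔸^m, 0, q)` have a common étale neighbourhood over `𝔸^1`. -/
theorem exists_common_subst (q : MvPolynomial (Fin m) k) (N : ℕ) (s : MvPolynomial (Fin m) k)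
    (hs : constantCoeff s = 1)
    (hJ : ∀ b ∈ (Ideal.span (Set.range (X : Fin m → MvPolynomial (Fin m) k))) ^ N,
      s * b ∈ Ideal.span (Set.range fun i => pderiv i q))
    (g : MvPolynomial (Fin m) k) (φ : Fin m → MvPolynomial (Fin m) k) (a : Fin m → k)
    (hφ0 : ∀ i, constantCoeff (φ i) = a i)
    (hdet : (Matrix.of fun i j => constantCoeff (pderiv j (φ i))).det ≠ 0)
    (hg : bind₁ φ g - q ∈ (Ideal.span (Set.range (X : Fin m → MvPolynomial (Fin m) k))) ^ (2 * N + 2)) :
    ∃ (B : Type v) (_ : CommRing B) (_ : Algebra k B) (ε : B →ₐ[k] k) (y z : Fin m → B),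
      IsEtaleCoord k y ∧ IsEtaleCoord k z ∧ (∀ i, ε (y i) = 0) ∧ (∀ i, ε (z i) = a i) ∧
      aeval y q = aeval z g := by
  have hcc : ∀ p : MvPolynomial (Fin m) k, Mu.ev0 k m p = constantCoeff p := fun p => by
    change aeval (fun _ => (0 : k)) p = _
    rw [show (fun _ : Fin m => (0 : k)) = 0 from rfl, MvPolynomial.aeval_zero]
    rfl
  have hker : RingHom.ker (Mu.ev0 k m) = Ideal.span (Set.range (X : Fin m → MvPolynomial (Fin m) k)) := by
    apply le_antisymm
    · intro p hp
      have hp0 : constantCoeff p = 0 := by rw [← hcc]; exact hp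
      have h1 : p ∈ MvPolynomial.idealOfVars (Fin m) k ^ 1 := by
        rw [MvPolynomial.mem_pow_idealOfVars_iff']
        intro d hd
        obtain rfl : d = 0 := by
          rw [← Finsupp.degree_eq_zero_iff]
          omega
        exact hp0
      rw [pow_one] at h1
      exact h1
    · rw [Ideal.span_le]
      rintro _ ⟨i, rfl⟩
      change Mu.ev0 k m (X i) = 0
      simp
  have hX := Mu.isEtaleCoord_X k m
  have hpd : ∀ (p : MvPolynomial (Fin m) k) (i : Fin m), hX.pd i p = pderiv i p := fun p i => by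
    have h1 := Det.pd_aeval hX p i
    rwa [MvPolynomial.aeval_X_left_apply, MvPolynomial.aeval_X_left_apply] at h1
  obtain ⟨B, _, _, ψ, y, ε, hψ, hε, hy, hy0, hyg⟩ := exists_common hX (Mu.ev0 k m) (fun i => by simp) q N s
    ((hcc s).trans hs) (by
      intro b hb
      rw [hker] at hb
      have := hJ b hb
      simpa only [hpd] using this) (bind₁ φ g) (by
      rw [hker, MvPolynomial.aeval_X_left_apply, ← neg_sub]
      exact neg_mem hg)
  obtain ⟨B', _, _, χ, ε', hχ, hε', hz, hz0⟩ := exists_etale_subst hy ε hy0 φ a hφ0 hdet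
  refine ⟨B', inferInstance, inferInstance, ε', fun i => χ (ψ (X i)), fun i => χ (aeval y (φ i)), ?_, hz,
    fun i => ?_, hz0, ?_⟩
  · exact (hX.comp ψ hψ).comp χ hχ
  · rw [hε', hε]
    simp
  · have h1 : aeval (fun i => χ (ψ (X i))) q = χ (ψ q) := by
      have h2 := (MvPolynomial.comp_aeval_apply (X : Fin m → MvPolynomial (Fin m) k) (χ.comp ψ) q)
      rw [MvPolynomial.aeval_X_left_apply] at h2
      exact h2.symm
    have h3 : aeval (fun i => χ (aeval y (φ i))) g = χ (aeval y (bind₁ φ g)) := by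
      rw [MvPolynomial.aeval_bind₁]
      exact (MvPolynomial.comp_aeval_apply (fun i => aeval y (φ i)) χ g).symm
    rw [h1, h3, hyg]

end Groth.Agent.Vancyc.H155.GermPoly
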