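import Groth.Agent.Vancyc.H155.Det
import Mathlib.RingTheory.Smooth.Kaehler
import Mathlib.Algebra.Polynomial.Derivation

/-!
# Finite determinacy: isolated critical points and the Jacobian ideal
-/

set_option autoImplicit false
set_option linter.style.haveILetI false

namespace Groth.Agent.Vancyc.H155.Isol

open MvPolynomial Groth.Agent.CurvesC.NodeEt KaehlerDifferential TensorProduct

universe u v w

section der

/-- Derivations extend along formally smooth maps. -/
theorem exists_extend {k : Type u} {R : Type v} {C : Type w} [CommRing k] [CommRing R] [CommRing C] [Algebra k R]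
    [Algebra k C] [Algebra R C] [IsScalarTower k R C] [Algebra.FormallySmooth R C] (δ : Derivation k R C) :
    ∃ D : Derivation k C C, ∀ r, D (algebraMap R C r) = δ r := by
  have h1 : Function.Injective (mapBaseChange k R C) := by
    rw [injective_iff_map_eq_zero]
    intro a ha
    obtain ⟨b, rfl⟩ := (Algebra.H1Cotangent.exact_δ_mapBaseChange k R C a).mp ha
    haveI : Subsingleton (Algebra.H1Cotangent R C) := inferInstance
    rw [Subsingleton.elim b 0, map_zero]
  haveI : Module.Projective C (Ω[C⁄R]) := inferInstance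
  obtain ⟨s, hs⟩ := Module.projective_lifting_property (KaehlerDifferential.map k R C C)
    LinearMap.id (KaehlerDifferential.map_surjective k R C)
  have htfae := ((KaehlerDifferential.exact_mapBaseChange_map k R C).split_tfae'
    (f := mapBaseChange k R C) (g := KaehlerDifferential.map k R C C)).out 0 1
  obtain ⟨-, l, hl⟩ := htfae.mp ⟨h1, s, hs⟩
  let e : C ⊗[R] Ω[R⁄k] →ₗ[C] C := LinearMap.liftBaseChange C δ.liftKaehlerDifferential
  refine ⟨(e ∘ₗ l).compDer (D k C), fun r => ?_⟩
  change e (l (D k C (algebraMap R C r))) = δ r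
  have h2 : D k C (algebraMap R C r) = mapBaseChange k R C (1 ⊗ₜ D k R r) := by
    rw [mapBaseChange_tmul, one_smul, map_D]
  rw [h2]
  have h3 := DFunLike.congr_fun hl (1 ⊗ₜ[R] D k R r)
  change l (mapBaseChange k R C (1 ⊗ₜ D k R r)) = 1 ⊗ₜ D k R r at h3
  rw [h3]
  change LinearMap.liftBaseChange C δ.liftKaehlerDifferential (1 ⊗ₜ[R] D k R r) = δ r
  rw [LinearMap.liftBaseChange_tmul, one_smul, Derivation.liftKaehlerDifferential_comp_D]

/-- If `k[t] → C`, `t ↦ h` is formally smooth there is a derivation with `D h = 1`. -/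
theorem exists_der_one {k : Type v} [CommRing k] {C : Type w} [CommRing C] [Algebra k C] (h : C)
    (hs : (Polynomial.aeval h : Polynomial k →ₐ[k] C).toRingHom.FormallySmooth) :
    ∃ D : Derivation k C C, D h = 1 := by
  letI : Algebra (Polynomial k) C := (Polynomial.aeval h : Polynomial k →ₐ[k] C).toRingHom.toAlgebra
  haveI : IsScalarTower k (Polynomial k) C := IsScalarTower.of_algebraMap_eq' (by
    ext r
    simp [RingHom.algebraMap_toAlgebra])
  haveI : Algebra.FormallySmooth (Polynomial k) C := hs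
  obtain ⟨D, hD⟩ := exists_extend (Polynomial.mkDerivation k (1 : C))
  refine ⟨D, ?_⟩
  have h1 : algebraMap (Polynomial k) C Polynomial.X = h := by
    simp [RingHom.algebraMap_toAlgebra]
  rw [← h1, hD, Polynomial.mkDerivation_X]

end der

variable {k : Type v} [Field k] {m : ℕ} {A : Type u} [CommRing A] [Algebra k A] {x : Fin m → A}

theorem der_eq_sum (hx : IsEtaleCoord k x) {M : Type w} [AddCommGroup M] [Module k M] [Module A M]
    [IsScalarTower k A M] (D : Derivation k A M) (a : A) : D a = ∑ i, hx.pd i a • D (x i) := by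
  let D' : Derivation k A M := ∑ i, ((LinearMap.toSpanSingleton A M (D (x i))).compDer (hx.pd i))
  have hD' : ∀ a, D' a = ∑ i, hx.pd i a • D (x i) := fun a => by
    rw [Jet.sum_apply]
    rfl
  rw [← hD']
  refine DFunLike.congr_fun (hx.der_ext D D' fun j => ?_) a
  rw [hD']
  simp only [hx.pd_coord, ite_smul, one_smul, zero_smul, Finset.sum_ite_eq', Finset.mem_univ, if_true]

/-- The ideal generated by the partial derivatives contains all the values of derivations. -/
theorem der_mem_span (hx : IsEtaleCoord k x) (D : Derivation k A A) (h : A) :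
    D h ∈ Ideal.span (Set.range fun i => hx.pd i h) := by
  rw [der_eq_sum hx]
  exact Submodule.sum_mem _ fun i _ => Ideal.mul_mem_right _ _ (Ideal.subset_span ⟨i, rfl⟩)

/-- Partial derivatives commute with étale maps. -/
theorem pd_comp (hx : IsEtaleCoord k x) {B : Type w} [CommRing B] [Algebra k B] (ψ : A →ₐ[k] B)
    (hψx : IsEtaleCoord k fun i => ψ (x i)) (i : Fin m) (a : A) : hψx.pd i (ψ a) = ψ (hx.pd i a) := by
  letI : Algebra A B := ψ.toRingHom.toAlgebra
  haveI : IsScalarTower k A B := IsScalarTower.of_algebraMap_eq fun r => (ψ.commutes r).symm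
  let d₁ : Derivation k A B := (hψx.pd i).compAlgebraMap A
  let d₂ : Derivation k A B := (Algebra.linearMap A B).compDer (hx.pd i)
  have h2 : d₁ = d₂ := hx.der_ext d₁ d₂ (fun l => by
    change hψx.pd i (ψ (x l)) = ψ (hx.pd i (x l))
    rw [hψx.pd_coord i l, hx.pd_coord i l]
    split_ifs <;> simp)
  exact DFunLike.congr_fun h2 a

theorem span_pd_eq_top (hx : IsEtaleCoord k x) (h : A)
    (hs : (Polynomial.aeval h : Polynomial k →ₐ[k] A).toRingHom.FormallySmooth) :
    Ideal.span (Set.range fun i => hx.pd i h) = ⊤ := by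
  obtain ⟨D, hD⟩ := exists_der_one h hs
  rw [Ideal.eq_top_iff_one, ← hD]
  exact der_mem_span hx D h

theorem span_pd_not_le (hx : IsEtaleCoord k x) (h c : A) (q : Ideal A) [q.IsPrime] (hc : c ∉ q)
    (hs : (Polynomial.aeval (algebraMap A (Localization.Away c) h) :
      Polynomial k →ₐ[k] Localization.Away c).toRingHom.FormallySmooth) :
    ¬ Ideal.span (Set.range fun i => hx.pd i h) ≤ q := by
  intro hle
  let C := Localization.Away c
  let θ : A →ₐ[k] C := IsScalarTower.toAlgHom k A C
  have hθ : θ.toRingHom.Etale := RingHom.etale_algebraMap.mpr (Coord.etale_away c)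
  have hxC : IsEtaleCoord k (fun i => θ (x i)) := hx.comp θ hθ
  have h1 := span_pd_eq_top hxC (θ h) hs
  have h2 : Ideal.span (Set.range fun i => hxC.pd i (θ h)) ≤ q.map (algebraMap A C) := by
    rw [Ideal.span_le]
    rintro _ ⟨i, rfl⟩
    change hxC.pd i (θ h) ∈ _
    rw [pd_comp hx θ hxC]
    exact Ideal.mem_map_of_mem _ (hle (Ideal.subset_span ⟨i, rfl⟩))
  rw [h1, top_le_iff] at h2
  have h3 : Disjoint (Submonoid.powers c : Set A) (q : Set A) :=
    (Ideal.disjoint_powers_iff_notMem c (Ideal.IsPrime.isRadical inferInstance)).mpr hc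
  exact (IsLocalization.isPrime_of_isPrime_disjoint (Submonoid.powers c) C q inferInstance h3).ne_top h2

/-- The Jacobian ideal is primary at an isolated critical point. -/
theorem exists_pow [IsNoetherianRing A] (hx : IsEtaleCoord k x) (ε : A →ₐ[k] k) (h b : A) (hb : ε b ≠ 0)
    (H : ∀ q : Ideal A, q.IsPrime → b ∉ q → q ≠ RingHom.ker ε → ∃ c ∉ q,
      (Polynomial.aeval (algebraMap A (Localization.Away c) h) :
      Polynomial k →ₐ[k] Localization.Away c).toRingHom.FormallySmooth) :
    ∃ (N : ℕ) (s : A), ε s = 1 ∧ ∀ a ∈ (RingHom.ker ε) ^ N, s * a ∈ Ideal.span (Set.range fun i => hx.pd i h) := by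
  set J := Ideal.span (Set.range fun i => hx.pd i h) with hJ
  have h1 : Ideal.span {b} * RingHom.ker ε ≤ J.radical := by
    rw [Ideal.radical_eq_sInf]
    refine le_sInf ?_
    rintro q ⟨hJq, hq⟩
    rw [Ideal.mul_le]
    intro r hr t ht
    by_cases hbq : b ∈ q
    · exact q.mul_mem_right _ ((Ideal.span_singleton_le_iff_mem q).mpr hbq hr)
    by_cases hqm : q = RingHom.ker ε
    · rw [hqm]
      exact Ideal.mul_mem_left _ _ ht
    · obtain ⟨c, hc, hs⟩ := H q hq hbq hqm
      exact absurd hJq (span_pd_not_le hx h c q hc hs)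
  obtain ⟨N, hN⟩ := Ideal.exists_pow_le_of_le_radical_of_fg h1 (IsNoetherian.noetherian _)
  refine ⟨N, algebraMap k A ((ε b ^ N)⁻¹) * b ^ N, ?_, fun a ha => ?_⟩
  · rw [map_mul, AlgHom.commutes, map_pow]
    exact inv_mul_cancel₀ (pow_ne_zero _ hb)
  · rw [mul_assoc]
    refine Ideal.mul_mem_left _ _ (hN ?_)
    rw [mul_pow]
    exact Ideal.mul_mem_mul (Ideal.pow_mem_pow (Ideal.mem_span_singleton_self b) N) ha

end Groth.Agent.Vancyc.H155.Isol
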