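import Groth.Agent.Vancyc.H155.Coord
import Mathlib.RingTheory.Nakayama

/-!
# Finite determinacy: jets in étale coordinates and Tougeron's theorem for étale neighbourhoods

`A` is a `k`-algebra with étale coordinates `x_i` centred at a rational point `ε : A →ₐ[k] k`.
-/

set_option autoImplicit false
set_option linter.style.haveILetI false

namespace Groth.Agent.Vancyc.H155.Jet

open MvPolynomial Groth.Agent.CurvesC.NodeEt

universe u v

variable {k : Type v} [Field k] {m : ℕ} {A : Type u} [CommRing A] [Algebra k A] {x : Fin m → A}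

/-- The derivation `a ↦ [a - ε a]` with values in the cotangent space. -/
noncomputable def cotDer (ε : A →ₐ[k] k) : Derivation k A (RingHom.ker ε).Cotangent :=
  Derivation.mk'
    { toFun := fun a => (RingHom.ker ε).toCotangent ⟨a - algebraMap k A (ε a), by
        rw [RingHom.mem_ker, map_sub, AlgHom.commutes]
        exact sub_self _⟩
      map_add' := fun a b => by
        rw [← map_add]
        congr 1
        ext
        simp only [map_add, AddMemClass.mk_add_mk]
        ring
      map_smul' := fun r a => by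
        rw [RingHom.id_apply]
        refine Eq.trans ?_ (IsScalarTower.algebraMap_smul A r _)
        rw [← LinearMap.map_smul]
        congr 1
        ext
        change r • a - algebraMap k A (ε (r • a)) = algebraMap k A r * (a - algebraMap k A (ε a))
        rw [map_smul, smul_eq_mul, map_mul, Algebra.smul_def]
        ring }
    (fun a b => by
      change (RingHom.ker ε).toCotangent _ = a • (RingHom.ker ε).toCotangent _ + b • (RingHom.ker ε).toCotangent _
      rw [← map_smul, ← map_smul, ← map_add, Ideal.toCotangent_eq]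
      change a * b - algebraMap k A (ε (a * b)) - (a * (b - algebraMap k A (ε b)) + b * (a - algebraMap k A (ε a))) ∈ _
      have h1 : a * b - algebraMap k A (ε (a * b)) - (a * (b - algebraMap k A (ε b)) +
          b * (a - algebraMap k A (ε a))) = -((a - algebraMap k A (ε a)) * (b - algebraMap k A (ε b))) := by
        rw [map_mul, map_mul]
        ring
      rw [h1, pow_two]
      refine neg_mem (Ideal.mul_mem_mul ?_ ?_) <;>
      · rw [RingHom.mem_ker, map_sub, AlgHom.commutes]
        exact sub_self _)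

theorem cotDer_apply (ε : A →ₐ[k] k) (a : A) (ha : a - algebraMap k A (ε a) ∈ RingHom.ker ε) :
    cotDer ε a = (RingHom.ker ε).toCotangent ⟨a - algebraMap k A (ε a), ha⟩ := rfl

theorem sum_apply {M : Type*} [AddCommGroup M] [Module k M] [Module A M] {ι : Type*} (t : Finset ι)
    (d : ι → Derivation k A M) (a : A) : (∑ i ∈ t, d i) a = ∑ i ∈ t, d i a := by
  classical
  induction t using Finset.induction_on with
  | empty => simp
  | insert i t hi ih => rw [Finset.sum_insert hi, Finset.sum_insert hi, Derivation.add_apply, ih]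

/-- First-order jets. -/
theorem sub_sum_mem (hx : IsEtaleCoord k x) (ε : A →ₐ[k] k) (hεx : ∀ i, ε (x i) = 0) (a : A) (ha : ε a = 0) :
    a - ∑ i, algebraMap k A (ε (hx.pd i a)) * x i ∈ (RingHom.ker ε) ^ 2 := by
  have hxm : ∀ i, x i ∈ RingHom.ker ε := fun i => hεx i
  let e : Fin m → (RingHom.ker ε).Cotangent := fun i => (RingHom.ker ε).toCotangent ⟨x i, hxm i⟩
  let d' : Derivation k A (RingHom.ker ε).Cotangent := ∑ i, ((LinearMap.toSpanSingleton A _ (e i)).compDer (hx.pd i))
  have hd : cotDer ε = d' := hx.der_ext _ _ fun j => by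
    have h1 : d' (x j) = ∑ i, hx.pd i (x j) • e i := by
      rw [sum_apply]
      rfl
    rw [h1]
    simp only [hx.pd_coord, ite_smul, one_smul, zero_smul, Finset.sum_ite_eq', Finset.mem_univ, if_true]
    rw [cotDer_apply _ _ (by rw [hεx, map_zero, sub_zero]; exact hxm j)]
    congr 1
    ext
    simp only [hεx, map_zero, sub_zero]
  have h2 : cotDer ε a = ∑ i, hx.pd i a • e i := by
    rw [hd, sum_apply]
    rfl
  have ham : a ∈ RingHom.ker ε := ha
  have h3 : cotDer ε a = (RingHom.ker ε).toCotangent ⟨a, ham⟩ := by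
    rw [cotDer_apply _ _ (by rw [ha, map_zero, sub_zero]; exact ham)]
    congr 1
    ext
    simp only [ha, map_zero, sub_zero]
  have h4 : ∀ i, hx.pd i a • e i = (RingHom.ker ε).toCotangent ⟨algebraMap k A (ε (hx.pd i a)) * x i,
      Ideal.mul_mem_left _ _ (hxm i)⟩ := by
    intro i
    change hx.pd i a • (RingHom.ker ε).toCotangent ⟨x i, hxm i⟩ = _
    rw [← map_smul, Ideal.toCotangent_eq]
    change hx.pd i a * x i - algebraMap k A (ε (hx.pd i a)) * x i ∈ _
    rw [← sub_mul, pow_two]
    refine Ideal.mul_mem_mul ?_ (hxm i)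
    rw [RingHom.mem_ker, map_sub, AlgHom.commutes]
    exact sub_self _
  rw [h3, Finset.sum_congr rfl fun i _ => h4 i, ← map_sum, Ideal.toCotangent_eq] at h2
  simpa using h2

/-- Homogeneous parts: an element of `m ^ M` is a polynomial in the coordinates modulo `m ^ (M + 1)`. -/
theorem exists_poly_succ (hx : IsEtaleCoord k x) (ε : A →ₐ[k] k) (hεx : ∀ i, ε (x i) = 0) (M : ℕ) :
    ∀ a ∈ (RingHom.ker ε) ^ M, ∃ φ : MvPolynomial (Fin m) k, a - aeval x φ ∈ (RingHom.ker ε) ^ (M + 1) := by
  induction M with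
  | zero =>
    intro a _
    refine ⟨C (ε a), ?_⟩
    rw [zero_add, pow_one, RingHom.mem_ker, map_sub, aeval_C, AlgHom.commutes]
    exact sub_self _
  | succ M ih =>
    intro a ha
    rw [pow_succ'] at ha
    refine Submodule.mul_induction_on ha ?_ ?_
    · intro b hb c hc
      obtain ⟨φ₂, h2⟩ := ih c hc
      let φ₁ : MvPolynomial (Fin m) k := ∑ i, C (ε (hx.pd i b)) * X i
      have h1 : b - aeval x φ₁ ∈ (RingHom.ker ε) ^ 2 := by
        have := sub_sum_mem hx ε hεx b hb
        simpa [φ₁] using this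
      have h3 : aeval x φ₁ ∈ RingHom.ker ε := by
        have : aeval x φ₁ = b - (b - aeval x φ₁) := by ring
        rw [this]
        exact sub_mem hb (Ideal.pow_le_self two_ne_zero h1)
      refine ⟨φ₁ * φ₂, ?_⟩
      have h4 : b * c - aeval x (φ₁ * φ₂) = aeval x φ₁ * (c - aeval x φ₂) + (b - aeval x φ₁) * c := by
        rw [map_mul]
        ring
      rw [h4]
      refine add_mem ?_ ?_
      · rw [pow_succ' _ (M + 1)]
        exact Ideal.mul_mem_mul h3 h2
      · rw [show M + 1 + 1 = 2 + M by omega, pow_add]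
        exact Ideal.mul_mem_mul h1 hc
    · rintro b c ⟨φ₁, h1⟩ ⟨φ₂, h2⟩
      refine ⟨φ₁ + φ₂, ?_⟩
      rw [map_add, add_sub_add_comm]
      exact add_mem h1 h2

/-- Jets: modulo `m ^ M` every element is a polynomial in the coordinates. -/
theorem exists_jet (hx : IsEtaleCoord k x) (ε : A →ₐ[k] k) (hεx : ∀ i, ε (x i) = 0) (M : ℕ) (h : A) :
    ∃ φ : MvPolynomial (Fin m) k, h - aeval x φ ∈ (RingHom.ker ε) ^ M := by
  induction M with
  | zero => exact ⟨0, by simp⟩
  | succ M ih =>
    obtain ⟨φ, hφ⟩ := ih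
    obtain ⟨φ', hφ'⟩ := exists_poly_succ hx ε hεx M _ hφ
    exact ⟨φ + φ', by rwa [map_add, ← sub_sub]⟩

/-- A derivation maps `I ^ (n + 1)` into `I ^ n`. -/
theorem der_mem_pow {B : Type u} [CommRing B] [Algebra k B] (d : Derivation k B B) (I : Ideal B) (n : ℕ)
    {b : B} (hb : b ∈ I ^ (n + 1)) : d b ∈ I ^ n := by
  induction n generalizing b with
  | zero => simp
  | succ n ih =>
    rw [pow_succ'] at hb
    refine Submodule.mul_induction_on hb ?_ ?_
    · intro x hx y hy
      rw [d.leibniz, smul_eq_mul, smul_eq_mul]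
      refine add_mem ?_ (Ideal.mul_mem_right _ _ hy)
      rw [pow_succ']
      exact Ideal.mul_mem_mul hx (ih hy)
    · intro x y hx hy
      rw [map_add]
      exact add_mem hx hy

/-- The Nakayama step. -/
theorem exists_mul_mem [IsNoetherianRing A] (ε : A →ₐ[k] k) (N : ℕ) (J J' : Ideal A) (s : A) (hs : ε s = 1)
    (hJ : ∀ b ∈ (RingHom.ker ε) ^ N, s * b ∈ J) (hJ' : J ≤ J' ⊔ (RingHom.ker ε) ^ (N + 1)) :
    ∃ r : A, ε r = 1 ∧ ∀ b ∈ (RingHom.ker ε) ^ N, r * b ∈ J' := by
  obtain ⟨r, hr, hr'⟩ := Submodule.exists_sub_one_mem_and_smul_le_of_fg_of_le_sup (I := RingHom.ker ε) (N := J')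
    (N' := (RingHom.ker ε) ^ N) (P := (RingHom.ker ε) ^ N)
    (IsNoetherian.noetherian _) le_rfl (by
      intro b hb
      have h1 : b = s * b + (1 - s) * b := by ring
      have h2 : (1 - s) * b ∈ (RingHom.ker ε) ^ (N + 1) := by
        rw [pow_succ']
        refine Ideal.mul_mem_mul ?_ hb
        rw [RingHom.mem_ker, map_sub, map_one, hs]
        exact sub_self _
      rw [smul_eq_mul, ← pow_succ', h1]
      exact add_mem (hJ' (hJ b hb)) (Ideal.mem_sup_right h2))
  refine ⟨r, ?_, ?_⟩
  · have : ε (r - 1) = 0 := hr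
    rwa [map_sub, map_one, sub_eq_zero] at this
  · intro b hb
    exact hr' (Submodule.smul_mem_pointwise_smul b r _ hb)

end Groth.Agent.Vancyc.H155.Jet
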