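import Groth.Agent.Vancyc.H155.AffChart

/-!
# Finite determinacy on schemes: a polynomial model of an isolated critical point

`f : X → S` a morphism of smooth `k`-schemes, `S` a curve, `x₀` an isolated critical point (or a smooth point). For all
polynomials `g` in a neighbourhood (for the `(X)`-adic topology) of a polynomial `φ`, `f` at `x₀` and
`g : 𝔸^{n+1} → 𝔸^1` at the origin have a common étale neighbourhood over an étale neighbourhood of `f x₀` over `𝔸^1`.
-/

set_option autoImplicit false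
set_option linter.style.haveILetI false

namespace Groth.Agent.Vancyc.H155.Main

open CategoryTheory CategoryTheory.Limits AlgebraicGeometry Groth.Agent.CurvesC.NodeEt
open AffChart

universe u v

/-- The point of `Spec A` defined by a `k`-point. -/
noncomputable abbrev pt {k A : Type u} [Field k] [CommRing A] [Algebra k A] (ε : A →ₐ[k] k) : Spec (CommRingCat.of A) :=
  Spec.map (CommRingCat.ofHom ε.toRingHom) (IsLocalRing.closedPoint k)

theorem pt_asIdeal {k A : Type u} [Field k] [CommRing A] [Algebra k A] (ε : A →ₐ[k] k) :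
    (pt ε).asIdeal = RingHom.ker ε := by
  ext a
  change ε a ∈ IsLocalRing.maximalIdeal k ↔ ε a = 0
  rw [IsLocalRing.maximalIdeal_eq_bot, Ideal.mem_bot]

/-- The smoothness hypothesis on the punctured neighbourhood, in an affine chart. -/
theorem formallySmooth_of_mem {k : Type u} [Field k] {S X : Scheme.{u}} (pS : S ⟶ Spec (CommRingCat.of k))
    (pX : X ⟶ Spec (CommRingCat.of k)) (f : X ⟶ S) (hf : f ≫ pS = pX) (U : X.Opens) (hU : Smooth (U.ι ≫ f))
    {V : S.Opens} (hV : IsAffineOpen V) {W : X.Opens} (hW : IsAffineOpen W) (h : W ≤ f ⁻¹ᵁ V) :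
    letI := secAlg pS V
    letI := secAlg pX W
    ∀ (t : Fin 1 → Γ(S, V)) (_ : IsEtaleCoord k t) (q : PrimeSpectrum Γ(X, W)) (_ : hW.fromSpec q ∈ U),
      ∃ c ∉ q.asIdeal, (Polynomial.aeval (algebraMap Γ(X, W) (Localization.Away c) (pb pS pX f hf V W h (t 0))) :
        Polynomial k →ₐ[k] Localization.Away c).toRingHom.FormallySmooth := by
  letI := secAlg pS V
  letI := secAlg pX W
  intro t ht q hq
  -- a basic open neighbourhood contained in the preimage of `U`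
  have hop : IsOpen {z : PrimeSpectrum Γ(X, W) | hW.fromSpec z ∈ U} := (hW.fromSpec ⁻¹ᵁ U).isOpen
  obtain ⟨_, ⟨_, ⟨c, rfl⟩, rfl⟩, hqc, hc⟩ :=
    PrimeSpectrum.isBasis_basic_opens.exists_subset_of_mem_open
      (show q ∈ {z : PrimeSpectrum Γ(X, W) | hW.fromSpec z ∈ U} from hq) hop
  refine ⟨c, hqc, ?_⟩
  let C := Localization.Away c
  let j : Spec (CommRingCat.of C) ⟶ X :=
    Spec.map (CommRingCat.ofHom (algebraMap Γ(X, W) C)) ≫ hW.fromSpec
  have hj : Set.range j ⊆ Set.range U.ι := by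
    rintro _ ⟨z, rfl⟩
    rw [Scheme.Opens.range_ι]
    have h1 : PrimeSpectrum.comap (algebraMap Γ(X, W) C) z ∈
        (PrimeSpectrum.basicOpen c : Set (PrimeSpectrum Γ(X, W))) := by
      rw [← PrimeSpectrum.localization_away_comap_range C c]
      exact ⟨z, rfl⟩
    exact hc h1
  let l : Spec (CommRingCat.of C) ⟶ U := IsOpenImmersion.lift U.ι j hj
  have hl : l ≫ U.ι = j := IsOpenImmersion.lift_fac _ _ _
  haveI : IsOpenImmersion j := inferInstance
  haveI : IsOpenImmersion (l ≫ U.ι) := by rw [hl]; infer_instance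
  haveI : IsOpenImmersion l := IsOpenImmersion.of_comp l U.ι
  have h1 : Smooth (l ≫ U.ι ≫ f) := inferInstance
  have h2 : l ≫ U.ι ≫ f = (Spec.map (CommRingCat.ofHom (algebraMap Γ(X, W) C)) ≫ Spec.map (f.appLE V W h)) ≫
      hV.fromSpec := by
    rw [← Category.assoc, hl]
    simp only [j, Category.assoc]
    rw [IsAffineOpen.SpecMap_appLE_fromSpec f hV hW h]
  rw [h2] at h1
  have h3 : Smooth (Spec.map (CommRingCat.ofHom (algebraMap Γ(X, W) C)) ≫ Spec.map (f.appLE V W h)) :=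
    Chart.smooth_of_comp_mono _ hV.fromSpec
  rw [← Spec.map_comp] at h3
  have h4 := (HasRingHomProperty.Spec_iff (P := @Smooth)).mp h3
  have h5 : ((algebraMap Γ(X, W) C).comp (pb pS pX f hf V W h).toRingHom).Smooth := h4
  have h6 := h5.formallySmooth
  have h8 : RingHom.FormallySmooth (Polynomial.aeval (t 0) : Polynomial k →ₐ[k] Γ(S, V)).toRingHom := by
    have h7 := Chart.polynomial_etale ht
    letI := (Polynomial.aeval (t 0) : Polynomial k →ₐ[k] Γ(S, V)).toRingHom.toAlgebra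
    haveI : Algebra.Etale (Polynomial k) Γ(S, V) := h7
    exact (inferInstance : Algebra.FormallySmooth (Polynomial k) Γ(S, V))
  have h9 := RingHom.FormallySmooth.comp h8 h6
  convert h9 using 1
  have h10 : (Polynomial.aeval (algebraMap Γ(X, W) C (pb pS pX f hf V W h (t 0))) : Polynomial k →ₐ[k] C) =
      ((IsScalarTower.toAlgHom k Γ(X, W) C).comp (pb pS pX f hf V W h)).comp
        (Polynomial.aeval (t 0) : Polynomial k →ₐ[k] Γ(S, V)) := by
    ext
    simp
  change (Polynomial.aeval (algebraMap Γ(X, W) C (pb pS pX f hf V W h (t 0))) : Polynomial k →ₐ[k] C).toRingHom = _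
  rw [h10]
  rfl

theorem ev0_eq {k : Type u} [Field k] {n : ℕ} (p : MvPolynomial (Fin n) k) :
    Mu.ev0 k n p = MvPolynomial.eval (0 : Fin n → k) p := by
  rw [← MvPolynomial.coe_aeval_eq_eval]
  rfl

/-- **Finite determinacy of isolated critical points.** -/
theorem main {k : Type u} [Field k] [IsAlgClosed k] {S X : Scheme.{u}} (pS : S ⟶ Spec (CommRingCat.of k))
    (pX : X ⟶ Spec (CommRingCat.of k)) [SmoothOfRelativeDimension 1 pS] (n : ℕ)
    [SmoothOfRelativeDimension n pX] (f : X ⟶ S) (hf : f ≫ pS = pX) (x₀ : X) (hx₀ : IsClosed ({x₀} : Set X))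
    (U : X.Opens) (hU : Smooth (U.ι ≫ f)) (hiso : ∃ V : X.Opens, x₀ ∈ V ∧ (V : Set X) ⊆ insert x₀ (U : Set X)) :
    ∃ (R₀ : Type u) (_ : CommRing R₀) (_ : Algebra k R₀) (j : Spec (CommRingCat.of R₀) ⟶ S) (τ : R₀)
      (ε₀ : R₀ →ₐ[k] k),
      IsOpenImmersion j ∧ j ≫ pS = Spec.map (CommRingCat.ofHom (algebraMap k R₀)) ∧
      (Polynomial.aeval τ : Polynomial k →ₐ[k] R₀).toRingHom.Etale ∧ ε₀ τ = 0 ∧ j (pt ε₀) = f x₀ ∧
      ∃ (M : ℕ) (φ : MvPolynomial (Fin n) k), 1 ≤ M ∧ ∀ g : MvPolynomial (Fin n) k,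
        g - φ ∈ (Ideal.span (Set.range (MvPolynomial.X : Fin n → MvPolynomial (Fin n) k))) ^ M →
        (∃ (B : Type u) (_ : CommRing B) (_ : Algebra k B) (p : Spec (CommRingCat.of B) ⟶ X) (y : Fin n → B)
          (ε : B →ₐ[k] k) (θ : R₀ →ₐ[k] B), Etale p ∧ p ≫ pX = Spec.map (CommRingCat.ofHom (algebraMap k B)) ∧
          IsEtaleCoord k y ∧ (∀ i, ε (y i) = 0) ∧ p (pt ε) = x₀ ∧ ε.comp θ = ε₀ ∧
          p ≫ f = Spec.map (CommRingCat.ofHom θ.toRingHom) ≫ j ∧ MvPolynomial.aeval y g = θ τ) ∧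
        MvPolynomial.eval (0 : Fin n → k) g = 0 ∧
        ∀ (O' : Type u) [CommRing O'] [Algebra k O'] [Algebra (MvPolynomial (Fin n) k) O']
          [IsScalarTower k (MvPolynomial (Fin n) k) O'] (M' : Submonoid (MvPolynomial (Fin n) k))
          (_ : ∀ t, t ∈ M' ↔ MvPolynomial.eval (0 : Fin n → k) t ≠ 0) [IsLocalization M' O'],
          VanCyc.milnor pX f x₀ = Module.finrank k (O' ⧸
            (Ideal.span (Set.range fun i => MvPolynomial.pderiv i g)).map (algebraMap (MvPolynomial (Fin n) k) O')) := by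
  obtain ⟨V, hV, hsV, -, t, ht⟩ := exists_affine_chart pS 1 (O := ⊤) (x₀ := f x₀) trivial
  obtain ⟨W, hW, hxW, hWV, x, hx⟩ := exists_affine_chart pX n (x₀ := x₀) (O := f ⁻¹ᵁ V) hsV
  letI := secAlg pS V
  letI := secAlg pX W
  let θ := pb pS pX f hf V W hWV
  haveI : Algebra.Smooth k Γ(X, W) := hx.smooth
  haveI : IsNoetherianRing Γ(X, W) := Algebra.FiniteType.isNoetherianRing k Γ(X, W)
  haveI : (hW.primeIdealOf ⟨x₀, hxW⟩).asIdeal.IsMaximal := hW.primeIdealOf_isMaximal_of_isClosed ⟨x₀, hxW⟩ hx₀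
  obtain ⟨ε, hε⟩ := Chart.exists_point (k := k) (hW.primeIdealOf ⟨x₀, hxW⟩).asIdeal
  let x' : Fin n → Γ(X, W) := fun i => x i - algebraMap k Γ(X, W) (ε (x i))
  let t' : Fin 1 → Γ(S, V) := fun i => t i - algebraMap k Γ(S, V) (ε (θ (t i)))
  have hx' : IsEtaleCoord k x' := Chart.translate hx _
  have ht' : IsEtaleCoord k t' := Chart.translate ht _
  have hεx' : ∀ i, ε (x' i) = 0 := fun i => by
    simp only [x', map_sub, AlgHom.commutes]
    exact sub_self _
  have hεt' : ε (θ (t' 0)) = 0 := by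
    simp only [t', map_sub, AlgHom.commutes]
    exact sub_self _
  have hptε : pt ε = hW.primeIdealOf ⟨x₀, hxW⟩ := PrimeSpectrum.ext ((pt_asIdeal ε).trans hε)
  have hptx : hW.fromSpec (pt ε) = x₀ := by
    rw [hptε]
    exact hW.fromSpec_primeIdealOf ⟨x₀, hxW⟩
  -- isolatedness
  obtain ⟨N, s, hs, hJ⟩ : ∃ (N : ℕ) (s : Γ(X, W)), ε s = 1 ∧ ∀ a ∈ (RingHom.ker ε) ^ N,
      s * a ∈ Ideal.span (Set.range fun i => hx'.pd i (θ (t' 0))) := by
    obtain ⟨V', hxV', hV'⟩ := hiso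
    have hop : IsOpen {z : PrimeSpectrum Γ(X, W) | hW.fromSpec z ∈ V'} := (hW.fromSpec ⁻¹ᵁ V').isOpen
    obtain ⟨_, ⟨_, ⟨b, rfl⟩, rfl⟩, hb, hb'⟩ :=
      PrimeSpectrum.isBasis_basic_opens.exists_subset_of_mem_open
        (show (pt ε : PrimeSpectrum Γ(X, W)) ∈ {z : PrimeSpectrum Γ(X, W) | hW.fromSpec z ∈ V'} from by
          change hW.fromSpec (pt ε) ∈ V'
          rwa [hptx]) hop
    refine Isol.exists_pow hx' ε (θ (t' 0)) b ?_ ?_
    · intro h0
      refine hb ?_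
      change b ∈ (pt ε).asIdeal
      rw [pt_asIdeal]
      exact h0
    · intro q hq hbq hqm
      have h1 : hW.fromSpec (⟨q, hq⟩ : PrimeSpectrum Γ(X, W)) ∈ V' := hb' hbq
      rcases hV' h1 with h2 | h2
      · exfalso
        apply hqm
        have h3 : (⟨q, hq⟩ : PrimeSpectrum Γ(X, W)) = pt ε :=
          hW.fromSpec.isOpenEmbedding.injective (h2.trans hptx.symm)
        rw [← pt_asIdeal, ← h3]
      · exact formallySmooth_of_mem pS pX f hf U hU hV hW hWV t' ht' ⟨q, hq⟩ h2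
  obtain ⟨M, φ, hM, H⟩ := Det.exists_common hx' ε hεx' (θ (t' 0)) N s hs hJ
  refine ⟨Γ(S, V), inferInstance, inferInstance, hV.fromSpec, t' 0, ε.comp θ, inferInstance, fromSpec_comp pS hV,
    Chart.polynomial_etale ht', hεt', ?_, M, φ, hM, fun g hg => ?_⟩
  · have h1 : pt (ε.comp θ) = Spec.map (f.appLE V W hWV) (pt ε) := by
      rw [← Scheme.Hom.comp_apply, ← Spec.map_comp]
      rfl
    rw [h1, ← Scheme.Hom.comp_apply, IsAffineOpen.SpecMap_appLE_fromSpec f hV hW hWV, Scheme.Hom.comp_apply, hptx]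
  obtain ⟨B, _, _, ψ, y, ε', hψ, hε', hy, hy0, hyg⟩ := H g hg
  refine ⟨⟨B, inferInstance, inferInstance, Spec.map (CommRingCat.ofHom ψ.toRingHom) ≫ hW.fromSpec, y, ε',
    ψ.comp θ, ?_, ?_, hy, hy0, ?_, ?_, ?_, hyg⟩, ?_, ?_⟩
  · haveI : Etale (Spec.map (CommRingCat.ofHom ψ.toRingHom)) := (HasRingHomProperty.Spec_iff (P := @Etale)).mpr hψ
    infer_instance
  · rw [Category.assoc, fromSpec_comp pX hW, ← Spec.map_comp]
    congr 1
    ext r
    exact ψ.commutes r
  · have h1 : Spec.map (CommRingCat.ofHom ψ.toRingHom) (pt ε') = pt ε := by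
      have h2 : CommRingCat.ofHom ψ.toRingHom ≫ CommRingCat.ofHom ε'.toRingHom = CommRingCat.ofHom ε.toRingHom := by
        ext a
        exact hε' a
      rw [← Scheme.Hom.comp_apply, ← Spec.map_comp, h2]
    rw [Scheme.Hom.comp_apply, h1, hptx]
  · ext a
    exact hε' _
  · rw [Category.assoc, ← IsAffineOpen.SpecMap_appLE_fromSpec f hV hW hWV, ← Category.assoc, ← Spec.map_comp]
    rfl
  · rw [← ev0_eq, ← Mu.ε_aeval ε' hy0, hyg, hε']
    exact hεt'
  · intro O' _ _ _ _ M' hM' _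
    obtain ⟨⟨r, hr1, hr⟩, hfr⟩ := Mu.exists_mu hx' ε hεx' (θ (t' 0)) N s hs hJ ψ hψ ε' hε' hy hy0 g hyg
    rw [Mu.finrank_localization (Mu.ev0 k n) O' M' (fun t => by rw [hM' t, ev0_eq])
      (Ideal.span (Set.range fun i => MvPolynomial.pderiv i g)) N r hr1 hr, ← hfr]
    -- the stalk side
    letI : Algebra k (X.presheaf.stalk x₀) := VanCyc.stalkAlgebra pX x₀
    letI : Algebra Γ(X, W) (X.presheaf.stalk x₀) := (X.presheaf.germ W x₀ hxW).hom.toAlgebra
    haveI : IsScalarTower k Γ(X, W) (X.presheaf.stalk x₀) :=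
      IsScalarTower.of_algebraMap_eq fun r => germ_algebraMap pX W x₀ hxW r
    haveI h1 : IsLocalization (hW.primeIdealOf ⟨x₀, hxW⟩).asIdeal.primeCompl (X.presheaf.stalk x₀) :=
      hW.isLocalization_stalk ⟨x₀, hxW⟩
    have h2 := Mu.finrank_localization ε (X.presheaf.stalk x₀) (hW.primeIdealOf ⟨x₀, hxW⟩).asIdeal.primeCompl
      (fun t => by
        change t ∉ (hW.primeIdealOf ⟨x₀, hxW⟩).asIdeal ↔ ε t ≠ 0
        rw [← hε]
        rfl) (Ideal.span (Set.range fun i => hx'.pd i (θ (t' 0)))) N s hs hJ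
    rw [← h2]
    have htm : (S.presheaf.germ V (f x₀) (hWV hxW)).hom (t' 0) ∈ IsLocalRing.maximalIdeal _ := by
      letI : Algebra Γ(S, V) (S.presheaf.stalk (f x₀)) := (S.presheaf.germ V (f x₀) (hWV hxW)).hom.toAlgebra
      haveI h3 : IsLocalization.AtPrime (S.presheaf.stalk (f x₀)) (hV.primeIdealOf ⟨f x₀, hWV hxW⟩).asIdeal :=
        hV.isLocalization_stalk ⟨f x₀, hWV hxW⟩
      have h4 : t' 0 ∈ (hV.primeIdealOf ⟨f x₀, hWV hxW⟩).asIdeal := by
        rw [← IsAffineOpen.comap_primeIdealOf_appLE V hV W hW hWV hxW]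
        change (f.appLE V W hWV).hom (t' 0) ∈ (hW.primeIdealOf ⟨x₀, hxW⟩).asIdeal
        rw [← hε]
        exact hεt'
      exact (IsLocalization.AtPrime.to_map_mem_maximal_iff (S.presheaf.stalk (f x₀))
        (hV.primeIdealOf ⟨f x₀, hWV hxW⟩).asIdeal (t' 0)).mpr h4
    have h5 := jacIdeal_eq pS pX f hf x₀ hV hW hWV hxW t' ht' x' hx' htm
    rw [VanCyc.milnor, h5]
    rfl

end Groth.Agent.Vancyc.H155.Main
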