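import Groth.Agent.Vancyc.H588.AsmDefs
import Groth.Agent.Vancyc.H155.Psi

/-!
# `PsiEt` of the assembly of S4015
-/

set_option autoImplicit false

universe u

namespace Groth.Agent.Vancyc.H155.PsiEt

open CategoryTheory CategoryTheory.Limits AlgebraicGeometry Psi

/-- **PsiEt**: the stalks of nearby cycles are étale local, and do not depend on the geometric point. -/
theorem psiEt : H588.AsmDefs.PsiEt.{u} := by
  intro R Ω _ _ _ _ _ _ _ ℓ _ _ W X fW f _ p _ hp Ω₁ _ _ ξ₁ Ω₂ _ _ ξ₂ h q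
  obtain ⟨a⟩ := nonempty_psi_iso R Ω fW (ZMod ℓ) q ξ₁
  obtain ⟨b⟩ := nonempty_psi_iso R Ω f (ZMod ℓ) q ξ₂
  obtain ⟨c⟩ := nonempty_St_fam f (Spec.map (CommRingCat.ofHom (algebraMap R Ω))) p fW hp (ZMod ℓ) q
    (ξ₁ ≫ VanCyc.icl R fW)
  obtain ⟨d⟩ := nonempty_St_point (VanCyc.jA R f Ω) (ZMod ℓ) q ((ξ₁ ≫ VanCyc.icl R fW) ≫ p)
    (ξ₂ ≫ VanCyc.icl R f) h
  exact ⟨(a ≪≫ c.symm ≪≫ d ≪≫ b.symm).addCommGroupIsoToAddEquiv⟩

end Groth.Agent.Vancyc.H155.PsiEt
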