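import Groth.Agent.Vancyc.H155.Psi
import Groth.Agent.Vancyc.H155.FD

/-!
# Transport of the stalks of nearby cycles along an étale roof
-/

set_option autoImplicit false

universe u

namespace Groth.Agent.Vancyc.H155.PsiRoof

open CategoryTheory CategoryTheory.Limits AlgebraicGeometry Psi

section Roof

variable {X S S₀ W A L D E : Scheme.{u}} (f : X ⟶ S) (j : S₀ ⟶ S) [Mono j] (τ : S₀ ⟶ L) [Etale τ] (G : A ⟶ L)
  (p : W ⟶ X) [Etale p] (q : W ⟶ A) [Etale q] (r : W ⟶ S₀) (hpf : p ≫ f = r ≫ j) (hqG : r ≫ τ = q ≫ G)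
  (ρ : D ⟶ S₀) (b : D ⟶ S) (hb : ρ ≫ j = b)

include hpf hb in
omit [Etale p] in
theorem isPullback_W : IsPullback (pullback.fst r ρ) (pullback.snd r ρ) (p ≫ f) b := by
  subst hb
  rw [hpf]
  exact ⟨⟨by rw [← Category.assoc, ← Category.assoc, pullback.condition]⟩,
    ⟨PullbackCone.isLimitOfCompMono r ρ j _ (limit.isLimit (cospan r ρ))⟩⟩

/-- `W_D ⟶ X_D`. -/
noncomputable def uX : pullback r ρ ⟶ pullback f b :=
  pullback.lift (pullback.fst r ρ ≫ p) (pullback.snd r ρ) (by
    rw [Category.assoc]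
    exact (isPullback_W f j p r hpf ρ b hb).w)

theorem uX_fst : uX f j p r hpf ρ b hb ≫ pullback.fst f b = pullback.fst r ρ ≫ p := pullback.lift_fst _ _ _

theorem uX_snd : uX f j p r hpf ρ b hb ≫ pullback.snd f b = pullback.snd r ρ := pullback.lift_snd _ _ _

theorem etale_uX : Etale (uX f j p r hpf ρ b hb) := by
  have h1 : IsPullback (pullback.fst r ρ) (uX f j p r hpf ρ b hb) p (pullback.fst f b) := by
    refine IsPullback.of_bot (v₂₁ := pullback.snd f b) (v₂₂ := f) (h₃₁ := b) ?_ (uX_fst ..).symm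
      (IsPullback.of_hasPullback f b)
    rw [uX_snd]
    exact isPullback_W f j p r hpf ρ b hb
  exact MorphismProperty.of_isPullback h1 inferInstance

/-- `W_D ⟶ A_D`. -/
noncomputable def uA : pullback r ρ ⟶ pullback G (ρ ≫ τ) :=
  pullback.lift (pullback.fst r ρ ≫ q) (pullback.snd r ρ) (by
    rw [Category.assoc, ← hqG, ← Category.assoc, pullback.condition, Category.assoc])

omit [Etale τ] [Etale q] in
theorem uA_fst : uA τ G q r hqG ρ ≫ pullback.fst G (ρ ≫ τ) = pullback.fst r ρ ≫ q := pullback.lift_fst _ _ _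

omit [Etale τ] [Etale q] in
theorem uA_snd : uA τ G q r hqG ρ ≫ pullback.snd G (ρ ≫ τ) = pullback.snd r ρ := pullback.lift_snd _ _ _

theorem etale_uA : Etale (uA τ G q r hqG ρ) := by
  let v : W ⟶ pullback G τ := pullback.lift q r hqG.symm
  have hv : Etale v := by
    have : Etale (v ≫ pullback.fst G τ) := by
      rw [pullback.lift_fst]
      infer_instance
    exact Etale.of_comp v (pullback.fst G τ)
  let z : pullback G (ρ ≫ τ) ⟶ pullback G τ := pullback.lift (pullback.fst G (ρ ≫ τ))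
    (pullback.snd G (ρ ≫ τ) ≫ ρ) (by rw [pullback.condition, Category.assoc])
  have h3 : IsPullback z (pullback.snd G (ρ ≫ τ)) (pullback.snd G τ) ρ := by
    refine IsPullback.of_right (h₁₂ := pullback.fst G τ) (v₁₃ := G) (h₂₂ := τ) ?_ (pullback.lift_snd _ _ _)
      (IsPullback.of_hasPullback G τ)
    rw [pullback.lift_fst]
    exact IsPullback.of_hasPullback G (ρ ≫ τ)
  have h1 : IsPullback (pullback.fst r ρ) (uA τ G q r hqG ρ) v z := by
    refine IsPullback.of_bot (v₂₁ := pullback.snd G (ρ ≫ τ)) (v₂₂ := pullback.snd G τ) (h₃₁ := ρ) ?_ ?_ h3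
    · rw [uA_snd, pullback.lift_snd]
      exact IsPullback.of_hasPullback r ρ
    · apply pullback.hom_ext
      · rw [Category.assoc, Category.assoc, pullback.lift_fst, pullback.lift_fst, uA_fst]
      · rw [Category.assoc, Category.assoc, pullback.lift_snd, pullback.lift_snd, ← Category.assoc, uA_snd,
          pullback.condition]
  exact MorphismProperty.of_isPullback h1 hv

variable (η : E ⟶ D)

/-- **The roof**: the stalks of `R^n h_* M` on both sides of an étale roof agree. -/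
theorem nonempty_St_roof (M : Type) [AddCommGroup M] (n : ℕ) {κ : Type u} [Field κ] [IsSepClosed κ]
    (w : Spec (CommRingCat.of κ) ⟶ pullback r ρ) :
    Nonempty (St (pullback.fst (pullback.snd f b) η) M n (w ≫ uX f j p r hpf ρ b hb) ≅
      St (pullback.fst (pullback.snd G (ρ ≫ τ)) η) M n (w ≫ uA τ G q r hqG ρ)) := by
  have h1 : Etale (uX f j p r hpf ρ b hb) := etale_uX f j p r hpf ρ b hb
  have h2 : Etale (uA τ G q r hqG ρ) := etale_uA τ G q r hqG ρ
  obtain ⟨e1⟩ := nonempty_St_fam (pullback.snd f b) η (uX f j p r hpf ρ b hb) (pullback.snd r ρ)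
    (uX_snd ..) M n w
  obtain ⟨e2⟩ := nonempty_St_fam (pullback.snd G (ρ ≫ τ)) η (uA τ G q r hqG ρ) (pullback.snd r ρ)
    (uA_snd ..) M n w
  exact ⟨e1 ≪≫ e2.symm⟩

end Roof

end Groth.Agent.Vancyc.H155.PsiRoof
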