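import Groth.Agent.Vancyc.H693.UnitTheta
import Groth.Agent.Etcore.PullCoh
import Groth.Agent.Sga5.H855.EtUnit

/-!
# Étale base change of `j_* j^*` with the action of automorphisms
-/

set_option autoImplicit false

universe u

open CategoryTheory CategoryTheory.Limits AlgebraicGeometry Opposite

namespace Groth.Agent.Vancyc.H155.ThetaEt

open Groth.Agent.Etcore.PullCoh Groth.Agent.Vancyc.H693.UnitTheta
open Groth.Agent.EtpbcB

section Endo

variable {X Z Z' : Scheme.{u}}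

/-- The comparison of base changes. -/
noncomputable def rr (s : Z' ⟶ Z) (j : Z ⟶ X) (j' : Z' ⟶ X) (h : s ≫ j = j') (V : X.Etale) :
    (EtCoh.bc j').obj V ⟶ (EtCoh.bc s).obj ((EtCoh.bc j).obj V) :=
  (BCCalc.congrIso h V).inv ≫ (BCCalc.compIso j s V).hom

theorem rr_left_pr (s : Z' ⟶ Z) (j : Z ⟶ X) (j' : Z' ⟶ X) (h : s ≫ j = j') (V : X.Etale) :
    (rr s j j' h V).left ≫ BCCalc.pr s _ ≫ BCCalc.pr j V = BCCalc.pr j' V := by
  rw [rr, BCCalc.comp_left, Category.assoc, BCCalc.compIso_hom_left_pr, BCCalc.congrIso_inv_left_pr]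

/-- `j_* G → j'_* H` for `τ : s^* G → H`, `s ≫ j = j'`. -/
noncomputable def endG (s : Z' ⟶ Z) (j : Z ⟶ X) (j' : Z' ⟶ X) (h : s ≫ j = j') {G : EtCoh.Ab Z}
    {H : EtCoh.Ab Z'} (τ : (EtCoh.pull s).obj G ⟶ H) : (EtCoh.push j).obj G ⟶ (EtCoh.push j').obj H :=
  ((EtCoh.push j).map ((EtCoh.pullPushAdj s).unit.app G) ≫
    (EtCoh.pushComp j s).hom.app _ ≫ (EtCoh.pushCongr h).hom.app _) ≫ (EtCoh.push j').map τ

theorem endG_app (s : Z' ⟶ Z) (j : Z ⟶ X) (j' : Z' ⟶ X) (h : s ≫ j = j') {G : EtCoh.Ab Z}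
    {H : EtCoh.Ab Z'} (τ : (EtCoh.pull s).obj G ⟶ H) (V : X.Etale)
    (x : EtCoh.sect G ((EtCoh.bc j).obj V)) :
    (endG s j j' h τ).hom.app (op V) x = τ.hom.app (op ((EtCoh.bc j').obj V))
      (((EtCoh.pull s).obj G).obj.map (rr s j j' h V).op (eta s G _ x)) := by
  rw [rr, res_comp]
  rfl

theorem th_eq (s : Z' ⟶ Z) (j : Z ⟶ X) (j' : Z' ⟶ X) (h : s ≫ j = j') (F : EtCoh.Ab X) :
    (EtCore.pullComp s j).inv.app F ≫ (EtCore.pullCongr h).hom.app F = th s j j' h F := by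
  subst h
  rw [Groth.Agent.Etcore.HpullCalc.pullCongr_rfl_hom_app, th, theta_rfl_hom_app]
  exact Category.comp_id _

theorem endo_eq (s : Z' ⟶ Z) (j : Z ⟶ X) (j' : Z' ⟶ X) (h : s ≫ j = j') (F : EtCoh.Ab X) :
    endo s j j' h F = endG s j j' h (th s j j' h F) := by
  rw [← th_eq s j j' h F]
  rfl

end Endo

section Square

variable {X Z U Z' : Scheme.{u}} {j : Z ⟶ X} {p : U ⟶ X} {j' : Z' ⟶ U} {p' : Z' ⟶ Z}

theorem bc_eta (w : p' ≫ j = j' ≫ p) (G : EtCoh.Ab Z) (V : X.Etale)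
    (x : EtCoh.sect G ((EtCoh.bc j).obj V)) :
    (EtCoh.baseChange0 j p j' p' w G).hom.app (op ((EtCoh.bc p).obj V))
      (eta p ((EtCoh.push j).obj G) V x) =
      ((EtCoh.pull p').obj G).obj.map (BCCalc.theta w V).hom.op (eta p' G _ x) := by
  have h := congrArg (fun t => t.hom.app (op V) x) (BCCalc.unit_baseChange0 w G)
  refine Eq.trans h ?_
  exact ConcreteCategory.congr_hom (BCCalc.sq_hom_app_app w ((EtCoh.pull p').obj G) V)
      (eta p' _ _ x)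

theorem bc_push_eta (w : p' ≫ j = j' ≫ p) (G : EtCoh.Ab Z) (H : EtCoh.Ab Z') (β : (EtCoh.pull p').obj G ⟶ H)
    (V : X.Etale) (x : EtCoh.sect G ((EtCoh.bc j).obj V)) :
    (EtCoh.baseChange0 j p j' p' w G ≫ (EtCoh.push j').map β).hom.app (op ((EtCoh.bc p).obj V))
      (eta p ((EtCoh.push j).obj G) V x) =
      β.hom.app _ (((EtCoh.pull p').obj G).obj.map (BCCalc.theta w V).hom.op (eta p' G _ x)) := by
  rw [← bc_eta w G V x]
  rfl

variable {s : Z ⟶ Z} {s' : Z' ⟶ Z'}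

theorem theta_coh (w : p' ≫ j = j' ≫ p) (hs : s ≫ j = j) (hs' : s' ≫ j' = j') (hss : s' ≫ p' = p' ≫ s)
    (V : X.Etale) :
    ((BCCalc.theta w V).hom ≫ (EtCoh.bc p').map (rr s j j hs V)) ≫
      bcComp p' s (p' ≫ s) rfl ((EtCoh.bc j).obj V) =
    (rr s' j' j' hs' ((EtCoh.bc p).obj V) ≫ (EtCoh.bc s').map (BCCalc.theta w V).hom) ≫
      bcComp s' p' (p' ≫ s) hss ((EtCoh.bc j).obj V) := by
  apply BCCalc.hom_ext_bc₂
  have h1 : (bcComp p' s (p' ≫ s) rfl ((EtCoh.bc j).obj V)).left ≫ BCCalc.pr (p' ≫ s) _ =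
      BCCalc.pr p' _ ≫ BCCalc.pr s _ := bcComp_left_fst p' s (p' ≫ s) rfl ((EtCoh.bc j).obj V)
  have h2 : (bcComp s' p' (p' ≫ s) hss ((EtCoh.bc j).obj V)).left ≫ BCCalc.pr (p' ≫ s) _ =
      BCCalc.pr s' _ ≫ BCCalc.pr p' _ := bcComp_left_fst s' p' (p' ≫ s) hss ((EtCoh.bc j).obj V)
  simp only [BCCalc.comp_left, Category.assoc]
  rw [reassoc_of% h1, reassoc_of% h2, BCCalc.bc_map_left_pr_assoc, BCCalc.bc_map_left_pr_assoc, rr_left_pr,
    BCCalc.theta_hom_left_pr]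
  have h3 := congrArg (fun t => t ≫ BCCalc.pr p V) (rr_left_pr s' j' j' hs' ((EtCoh.bc p).obj V))
  simp only [Category.assoc] at h3
  exact h3.symm

theorem step_aux {X Z Z' : Scheme.{u}} (p' : Z' ⟶ Z) (s : Z ⟶ X) (t : Z' ⟶ X) (h : p' ≫ s = t)
    {G : EtCoh.Ab X} {G' : EtCoh.Ab Z} {H : EtCoh.Ab Z'}
    (τ : (EtCoh.pull s).obj G ⟶ G') (β : (EtCoh.pull p').obj G' ⟶ H) (γ : (EtCoh.pull t).obj G ⟶ H)
    (c : (EtCoh.pull p').map τ ≫ β = th p' s t h G ≫ γ) {V : X.Etale} {W : Z.Etale} {W' : Z'.Etale}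
    (r : W ⟶ (EtCoh.bc s).obj V) (q : W' ⟶ (EtCoh.bc p').obj W) (x : EtCoh.sect G V) :
    β.hom.app (op W') (((EtCoh.pull p').obj G').obj.map q.op
      (eta p' G' W (τ.hom.app (op W) (((EtCoh.pull s).obj G).obj.map r.op (eta s G V x))))) =
    γ.hom.app (op W') (((EtCoh.pull t).obj G).obj.map
      ((q ≫ (EtCoh.bc p').map r) ≫ bcComp p' s t h V).op (eta t G V x)) := by
  rw [← eta_map, eta_res, ← map_res, ← res_comp, ← map_comp_app, c, map_comp_app, th_unit_res]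

/-- Generic form of the compatibility. -/
theorem endG_comm (w : p' ≫ j = j' ≫ p) (hs : s ≫ j = j) (hs' : s' ≫ j' = j') (hss : s' ≫ p' = p' ≫ s)
    {G : EtCoh.Ab Z} {H : EtCoh.Ab Z'} (τ : (EtCoh.pull s).obj G ⟶ G) (τ' : (EtCoh.pull s').obj H ⟶ H)
    (β : (EtCoh.pull p').obj G ⟶ H) (γ : (EtCoh.pull (p' ≫ s)).obj G ⟶ H)
    (c1 : (EtCoh.pull p').map τ ≫ β = th p' s (p' ≫ s) rfl G ≫ γ)
    (c2 : (EtCoh.pull s').map β ≫ τ' = th s' p' (p' ≫ s) hss G ≫ γ) :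
    (EtCoh.pull p).map (endG s j j hs τ) ≫ EtCoh.baseChange0 j p j' p' w G ≫ (EtCoh.push j').map β =
      (EtCoh.baseChange0 j p j' p' w G ≫ (EtCoh.push j').map β) ≫ endG s' j' j' hs' τ' := by
  refine pull_hom_ext p _ _ fun V x => ?_
  rw [map_comp_app, map_comp_app, eta_map]
  refine (bc_push_eta w G H β V _).trans ?_
  refine (congrArg (fun y => β.hom.app _ (((EtCoh.pull p').obj G).obj.map (BCCalc.theta w V).hom.op
    (eta p' G ((EtCoh.bc j).obj V) y))) (endG_app s j j hs τ V x)).trans ?_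
  refine (step_aux p' s (p' ≫ s) rfl τ β γ c1 (rr s j j hs V) (BCCalc.theta w V).hom x).trans ?_
  refine Eq.symm ((congrArg (fun t => (endG s' j' j' hs' τ').hom.app (op ((EtCoh.bc p).obj V)) t)
    (bc_push_eta w G H β V x)).trans ?_)
  refine (endG_app s' j' j' hs' τ' ((EtCoh.bc p).obj V) _).trans ?_
  refine (congrArg (fun y => τ'.hom.app _ (((EtCoh.pull s').obj H).obj.map (rr s' j' j' hs' _).op y))
    rfl).trans ((step_aux s' p' (p' ≫ s) hss β τ' γ c2 (BCCalc.theta w V).hom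
      (rr s' j' j' hs' ((EtCoh.bc p).obj V)) x).trans ?_)
  rw [theta_coh w hs hs' hss V]

/-- `p'^* j^* F ≅ j'^* p^* F`. -/
noncomputable def be (w : p' ≫ j = j' ≫ p) (F : EtCoh.Ab X) :
    (EtCoh.pull p').obj ((EtCoh.pull j).obj F) ⟶ (EtCoh.pull j').obj ((EtCoh.pull p).obj F) :=
  th p' j (j' ≫ p) w F ≫ inv (th j' p (j' ≫ p) rfl F)

instance (w : p' ≫ j = j' ≫ p) (F : EtCoh.Ab X) : IsIso (be w F) := by
  unfold be; infer_instance


theorem be_nat (w : p' ≫ j = j' ≫ p) {F G : EtCoh.Ab X} (φ : F ⟶ G) :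
    (EtCoh.pull p').map ((EtCoh.pull j).map φ) ≫ be w G =
      be w F ≫ (EtCoh.pull j').map ((EtCoh.pull p).map φ) := by
  rw [be, be, ← Category.assoc, th_nat, Category.assoc, Category.assoc]
  congr 1
  rw [IsIso.comp_inv_eq, Category.assoc, th_nat, IsIso.inv_hom_id_assoc]

/-- `p^* j_* j^* F ⟶ j'_* j'^* p^* F`. -/
noncomputable def al (w : p' ≫ j = j' ≫ p) (F : EtCoh.Ab X) :
    (EtCoh.pull p).obj ((EtCoh.push j).obj ((EtCoh.pull j).obj F)) ⟶
      (EtCoh.push j').obj ((EtCoh.pull j').obj ((EtCoh.pull p).obj F)) :=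
  EtCoh.baseChange0 j p j' p' w ((EtCoh.pull j).obj F) ≫ (EtCoh.push j').map (be w F)


theorem al_nat (w : p' ≫ j = j' ≫ p) {F G : EtCoh.Ab X} (φ : F ⟶ G) :
    (EtCoh.pull p).map ((EtCoh.push j).map ((EtCoh.pull j).map φ)) ≫ al w G =
      al w F ≫ (EtCoh.push j').map ((EtCoh.pull j').map ((EtCoh.pull p).map φ)) := by
  rw [al, al, ← Category.assoc, BCCalc.baseChange0_naturality, Category.assoc, Category.assoc,
    ← Functor.map_comp, ← Functor.map_comp, be_nat]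


theorem isIso_al [Etale p] (sq : IsPullback p' j' j p) (F : EtCoh.Ab X) : IsIso (al sq.w F) := by
  have h := Sga5.H855.EtUnit.isIso_baseChange0_of_etale sq ((EtCoh.pull j).obj F)
  unfold al
  infer_instance

/-- The action of `s` on `j_* j^*` corresponds to that of `s'` on `j'_* j'^*`. -/
theorem al_endo (w : p' ≫ j = j' ≫ p) (hs : s ≫ j = j) (hs' : s' ≫ j' = j') (hss : s' ≫ p' = p' ≫ s)
    (F : EtCoh.Ab X) :
    (EtCoh.pull p).map (endo s j j hs F) ≫ al w F = al w F ≫ endo s' j' j' hs' ((EtCoh.pull p).obj F) := by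
  have hw : (p' ≫ s) ≫ j = j' ≫ p := by rw [Category.assoc, hs, w]
  have hw' : s' ≫ j' ≫ p = j' ≫ p := by rw [← Category.assoc, hs']
  rw [endo_eq, endo_eq, al]
  refine endG_comm w hs hs' hss (th s j j hs F) (th s' j' j' hs' ((EtCoh.pull p).obj F)) (be w F)
    (th (p' ≫ s) j (j' ≫ p) hw F ≫ inv (th j' p (j' ≫ p) rfl F)) ?_ ?_
  · rw [be, ← Category.assoc, th_assoc p' s j (p' ≫ s) j (j' ≫ p) rfl hs w hw F, Category.assoc]
  · have e1 := th_assoc s' j' p j' (j' ≫ p) (j' ≫ p) hs' rfl hw' rfl F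
    have e2 := th_assoc s' p' j (p' ≫ s) (j' ≫ p) (j' ≫ p) hss w hw' hw F
    rw [← cancel_mono (th j' p (j' ≫ p) rfl F)]
    simp only [Category.assoc, IsIso.inv_hom_id, Category.comp_id]
    rw [← e1, ← e2, ← Category.assoc, ← Functor.map_comp, be, Category.assoc, IsIso.inv_hom_id,
      Category.comp_id]

end Square

end Groth.Agent.Vancyc.H155.ThetaEt
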