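import Groth.Agent.Hensel.MvHensel
import Groth.Agent.CurvesC.NodeEt

/-!
# Finite determinacy, algebraic core

For a polynomial `g` in `m` variables over `k`, a `k`-algebra `A` with elements `x_1..x_m` and
`h = g(x) + ∑ a_{lr} ∂_l g(x) ∂_r g(x)`, we construct an étale `A`-algebra `B` with elements `c_{ij}` such that
`g(x + ∑_j c_{ij} ∂_j g(x)) = h` in `B` (Tougeron's trick with one application of the Jacobian criterion).
-/

set_option autoImplicit false

namespace Groth.Agent.Vancyc.H155.Tougeron

open MvPolynomial

universe u v w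

section Taylor

variable {k : Type v} [CommRing k] {m : ℕ}

/-- Second order Taylor formula with polynomial remainder. -/
theorem exists_taylor (g : MvPolynomial (Fin m) k) :
    ∃ T : Fin m → Fin m → MvPolynomial (Fin m ⊕ Fin m) k,
      ∀ {C : Type u} [CommRing C] [Algebra k C] (x t : Fin m → C),
        aeval (fun i => x i + t i) g = aeval x g + ∑ i, aeval x (pderiv i g) * t i +
          ∑ i, ∑ j, aeval (Sum.elim x t) (T i j) * t i * t j := by
  induction g using MvPolynomial.induction_on with
  | C a =>
    refine ⟨fun _ _ => 0, fun {C} _ _ x t => ?_⟩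
    simp
  | add p q hp hq =>
    obtain ⟨T, hT⟩ := hp
    obtain ⟨T', hT'⟩ := hq
    refine ⟨fun i j => T i j + T' i j, fun {C} _ _ x t => ?_⟩
    rw [map_add, hT, hT']
    simp only [map_add, add_mul, Finset.sum_add_distrib]
    ring
  | mul_X p l hp =>
    obtain ⟨T, hT⟩ := hp
    refine ⟨fun i j => T i j * (X (Sum.inl l) + X (Sum.inr l)) +
      (if j = l then rename Sum.inl (pderiv i p) else 0), fun {C} _ _ x t => ?_⟩
    rw [map_mul, hT, aeval_X]
    have h1 : ∀ i, aeval x (pderiv i (p * X l)) = aeval x (pderiv i p) * x l +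
        (if i = l then aeval x p else 0) := by
      intro i
      rw [Derivation.leibniz, pderiv_X, smul_eq_mul, smul_eq_mul, map_add, map_mul, map_mul, aeval_X]
      by_cases hi : i = l
      · subst hi
        simp
        ring
      · simp [hi, Ne.symm hi]
        ring
    have h2 : ∀ i j, aeval (Sum.elim x t) (T i j * (X (Sum.inl l) + X (Sum.inr l)) +
        (if j = l then rename Sum.inl (pderiv i p) else 0)) =
        aeval (Sum.elim x t) (T i j) * (x l + t l) + (if j = l then aeval x (pderiv i p) else 0) := by
      intro i j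
      rw [map_add, map_mul, map_add, aeval_X, aeval_X]
      simp only [Sum.elim_inl, Sum.elim_inr]
      congr 1
      split_ifs with hj
      · rw [aeval_rename]
        rfl
      · simp
    simp only [h1, h2, map_mul, aeval_X]
    simp only [add_mul, Finset.sum_add_distrib, ite_mul, zero_mul, Finset.sum_ite_eq', Finset.mem_univ,
      if_true]
    have h3 : ∑ i, aeval x (pderiv i p) * x l * t i = (∑ i, aeval x (pderiv i p) * t i) * x l := by
      rw [Finset.sum_mul]
      exact Finset.sum_congr rfl fun i _ => by ring
    have h4 : ∑ i, ∑ j, aeval (Sum.elim x t) (T i j) * (x l + t l) * t i * t j =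
        (∑ i, ∑ j, aeval (Sum.elim x t) (T i j) * t i * t j) * (x l + t l) := by
      rw [Finset.sum_mul]
      refine Finset.sum_congr rfl fun i _ => ?_
      rw [Finset.sum_mul]
      exact Finset.sum_congr rfl fun j _ => by ring
    have h5 : ∑ i, aeval x (pderiv i p) * t i * t l = (∑ i, aeval x (pderiv i p) * t i) * t l := by
      rw [Finset.sum_mul]
    rw [h3]
    simp only [mul_add, add_mul] at h4 ⊢
    simp only [Finset.sum_add_distrib] at h4 ⊢
    rw [h5]
    linear_combination (-1 : C) * h4

end Taylor

section Etale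

variable {k : Type v} [Field k] {m : ℕ}

/-- The étale algebra solving Tougeron's equations. -/
theorem exists_etale (A : Type u) [CommRing A] [Algebra k A] (x : Fin m → A) (g : MvPolynomial (Fin m) k)
    (a : Fin m → Fin m → A) :
    ∃ (B : Type u) (_ : CommRing B) (_ : Algebra A B) (_ : Algebra k B) (_ : IsScalarTower k A B)
      (c : Fin m → Fin m → B), Algebra.Etale A B ∧
      aeval (fun i => algebraMap A B (x i) + ∑ j, c i j * algebraMap A B (aeval x (pderiv j g))) g =
        algebraMap A B (aeval x g + ∑ l, ∑ r, a l r * aeval x (pderiv l g) * aeval x (pderiv r g)) ∧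
      (∀ l r, c l r - algebraMap A B (a l r) ∈
        (Ideal.span (Set.range fun p : Fin m × Fin m => c p.1 p.2)) ^ 2) ∧
      (∀ (K : Type w) [Field K] [Algebra A K], (∀ l r, algebraMap A K (a l r) = 0) →
        ∃ ε : B →ₐ[A] K, ∀ i j, ε (c i j) = 0) := by
  obtain ⟨T, hT⟩ := exists_taylor.{u} g
  let D : Fin m → A := fun j => aeval x (pderiv j g)
  let P := MvPolynomial (Fin m × Fin m) A
  let t : Fin m → P := fun i => ∑ j, X (i, j) * C (D j)
  let Q : Fin m → Fin m → P := fun l r =>
    ∑ i, ∑ j, aeval (Sum.elim (fun i => (C (x i) : P)) t) (T i j) * X (i, l) * X (j, r)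
  let G : Fin m × Fin m → P := fun p => X p + Q p.1 p.2 - C (a p.1 p.2)
  let J := Ideal.span (Set.range G)
  let B₀ := P ⧸ J
  let δ : B₀ := Ideal.Quotient.mk J (Hensel.MvHensel.jac G).det
  let B := Localization.Away δ
  have hB : Algebra.Etale A B := Hensel.MvHensel.etale_of_away_jacobian G B
  let π : P →ₐ[A] B := (IsScalarTower.toAlgHom A B₀ B).comp (Ideal.Quotient.mkₐ A J)
  have hπG : ∀ p, π (G p) = 0 := by
    intro p
    have h3 : Ideal.Quotient.mk J (G p) = 0 :=
      Ideal.Quotient.eq_zero_iff_mem.mpr (Ideal.subset_span ⟨p, rfl⟩)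
    change algebraMap B₀ B (Ideal.Quotient.mk J (G p)) = 0
    rw [h3, map_zero]
  let c : Fin m → Fin m → B := fun i j => π (X (i, j))
  have hπC : ∀ b : A, π (C b) = algebraMap A B b := fun b => π.commutes b
  have hπT : ∀ i j, π (aeval (Sum.elim (fun i => (C (x i) : P)) t) (T i j)) =
      aeval (Sum.elim (fun i => algebraMap A B (x i)) (fun i => π (t i))) (T i j) := by
    intro i j
    have h4 := MvPolynomial.map_aeval (S₁ := P) (Sum.elim (fun i => (C (x i) : P)) t) (π : P →+* B) (T i j)
    rw [show π (aeval (Sum.elim (fun i => (C (x i) : P)) t) (T i j)) =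
      (π : P →+* B) (aeval (Sum.elim (fun i => (C (x i) : P)) t) (T i j)) from rfl, h4]
    rw [MvPolynomial.aeval_def, MvPolynomial.coe_eval₂Hom]
    have h5 : ((π : P →+* B).comp (algebraMap k P)) = algebraMap k B := by
      ext b
      change π (algebraMap k P b) = algebraMap k B b
      rw [IsScalarTower.algebraMap_apply k A P, IsScalarTower.algebraMap_apply k A B]
      exact hπC _
    have h6 : (fun s => (π : P →+* B) (Sum.elim (fun i => (C (x i) : P)) t s)) =
        Sum.elim (fun i => algebraMap A B (x i)) (fun i => π (t i)) := by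
      ext s
      rcases s with s | s
      · exact hπC _
      · rfl
    rw [h5, h6]
  have hπt : ∀ i, π (t i) = ∑ j, c i j * algebraMap A B (D j) := by
    intro i
    simp only [t, map_sum, map_mul, hπC, c]
  have hπQ : ∀ l r, π (Q l r) = ∑ i, ∑ j,
      aeval (Sum.elim (fun i => algebraMap A B (x i)) (fun i => π (t i))) (T i j) * c i l * c j r := by
    intro l r
    simp only [Q, map_sum, map_mul, hπT, c]
  have hrel : ∀ l r, c l r + π (Q l r) = algebraMap A B (a l r) := by
    intro l r
    have := hπG (l, r)
    simp only [G, map_sub, map_add, hπC] at this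
    exact sub_eq_zero.mp this
  refine ⟨B, inferInstance, inferInstance, inferInstance, inferInstance, c, hB, ?_, ?_, ?_⟩
  · have h1 := hT (fun i => algebraMap A B (x i)) (fun i => π (t i))
    have h2 : ∀ p : MvPolynomial (Fin m) k, aeval (fun i => algebraMap A B (x i)) p =
        algebraMap A B (aeval x p) := fun p => by
      rw [← MvPolynomial.aeval_algebraMap_apply]
      rfl
    have h3 : (fun i => algebraMap A B (x i) + ∑ j, c i j * algebraMap A B (aeval x (pderiv j g))) =
        fun i => algebraMap A B (x i) + π (t i) := by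
      ext i
      rw [hπt]
    rw [h3, h1, map_add, h2]
    simp only [h2, map_sum, map_mul]
    rw [add_assoc]
    congr 1
    have h4 : ∀ l r, algebraMap A B (a l r) * algebraMap A B (D l) * algebraMap A B (D r) =
        c l r * algebraMap A B (D l) * algebraMap A B (D r) +
        ∑ i, ∑ j, aeval (Sum.elim (fun i => algebraMap A B (x i)) (fun i => π (t i))) (T i j) *
          (c i l * algebraMap A B (D l)) * (c j r * algebraMap A B (D r)) := by
      intro l r
      rw [← hrel, hπQ, add_mul, add_mul]
      congr 1
      rw [Finset.sum_mul, Finset.sum_mul]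
      refine Finset.sum_congr rfl fun i _ => ?_
      rw [Finset.sum_mul, Finset.sum_mul]
      exact Finset.sum_congr rfl fun j _ => by ring
    simp only [D] at h4
    simp only [h4, Finset.sum_add_distrib]
    congr 1
    · refine Finset.sum_congr rfl fun i _ => ?_
      rw [hπt, Finset.mul_sum]
      exact Finset.sum_congr rfl fun j _ => by ring
    · -- swap the order of summation
      have h5 : ∀ i j, aeval (Sum.elim (fun i => algebraMap A B (x i)) (fun i => π (t i))) (T i j) *
          π (t i) * π (t j) = ∑ l, ∑ r,
            aeval (Sum.elim (fun i => algebraMap A B (x i)) (fun i => π (t i))) (T i j) *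
            (c i l * algebraMap A B (D l)) * (c j r * algebraMap A B (D r)) := by
        intro i j
        rw [mul_assoc]
        conv_lhs =>
          rw [hπt i, hπt j, Finset.sum_mul_sum, Finset.mul_sum]
        refine Finset.sum_congr rfl fun l _ => ?_
        rw [Finset.mul_sum]
        exact Finset.sum_congr rfl fun r _ => by ring
      simp only [h5, D]
      rw [Finset.sum_congr rfl fun i _ => Finset.sum_comm]
      rw [Finset.sum_comm]
      refine Finset.sum_congr rfl fun l _ => ?_
      rw [Finset.sum_congr rfl fun i _ => Finset.sum_comm]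
      rw [Finset.sum_comm]
  · intro l r
    have h1 : c l r - algebraMap A B (a l r) = - π (Q l r) := by
      rw [← hrel]
      ring
    rw [h1, hπQ]
    refine (Ideal.neg_mem_iff _).mpr (Ideal.sum_mem _ fun i _ => Ideal.sum_mem _ fun j _ => ?_)
    rw [mul_assoc]
    refine Ideal.mul_mem_left _ _ ?_
    rw [pow_two]
    exact Ideal.mul_mem_mul (Ideal.subset_span ⟨(i, l), rfl⟩) (Ideal.subset_span ⟨(j, r), rfl⟩)
  · intro K _ _ ha
    let e : P →ₐ[A] K := aeval (fun _ => 0)
    have heX : ∀ p, e (X p) = 0 := fun p => aeval_X _ _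
    have heQ : ∀ l r, e (Q l r) = 0 := by
      intro l r
      simp only [Q, map_sum, map_mul, heX, mul_zero, Finset.sum_const_zero]
    have heG : ∀ p, e (G p) = 0 := by
      intro p
      simp only [G, map_sub, map_add, heX, heQ, zero_add, zero_sub, neg_eq_zero]
      exact (e.commutes _).trans (ha _ _)
    have hej : (Hensel.MvHensel.jac G).map (e : P →+* K) = 1 := by
      ext p q
      simp only [Hensel.MvHensel.jac, Matrix.map_apply, Matrix.of_apply]
      have h1 : ∀ i j, (e : P →+* K) (pderiv p (aeval (Sum.elim (fun i => (C (x i) : P)) t) (T i j) *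
          X (i, q.1) * X (j, q.2))) = 0 := by
        intro i j
        simp only [Derivation.leibniz, smul_eq_mul, RingHom.coe_coe, map_add, map_mul, heX, zero_mul, mul_zero,
          add_zero]
      simp only [G, Q, map_sub, map_add, map_sum, h1, Finset.sum_const_zero, add_zero, pderiv_C,
        sub_zero, pderiv_X]
      by_cases hpq : p = q
      · subst hpq
        simp
      · rw [Matrix.one_apply_ne hpq, Pi.single_eq_of_ne (Ne.symm hpq), map_zero]
    let σ₀ : B₀ →ₐ[A] K := Ideal.Quotient.liftₐ J e (by
      intro p hp
      have : J ≤ RingHom.ker e := by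
        rw [Ideal.span_le]
        rintro _ ⟨i, rfl⟩
        rw [SetLike.mem_coe, RingHom.mem_ker, heG]
      exact this hp)
    let σ : B →ₐ[A] K := IsLocalization.liftAlgHom (M := Submonoid.powers δ) (f := σ₀) (by
      rintro ⟨_, n, rfl⟩
      simp only [map_pow]
      apply IsUnit.pow
      have : σ₀ δ = (e : P →+* K) (Hensel.MvHensel.jac G).det := rfl
      rw [this, RingHom.map_det, RingHom.mapMatrix_apply, hej, Matrix.det_one]
      exact isUnit_one)
    refine ⟨σ, fun i j => ?_⟩
    change σ (algebraMap B₀ B (Ideal.Quotient.mk J (X (i, j)))) = 0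
    rw [IsLocalization.liftAlgHom_apply, IsLocalization.lift_eq]
    exact heX _

end Etale

end Groth.Agent.Vancyc.H155.Tougeron
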